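import Cfsg.Agent.Lib.BC78.Galois
import Cfsg.Agent.Lib.BC78.PowChar
import Mathlib.Algebra.CharP.Lemmas

/-!
# Rational valued characters and prime powers
-/

set_option autoImplicit false

namespace Cfsg.Agent.Lib.PrimeSharp.TwoP.Congr

open Cfsg.Agent.Lib.Characters.Basic

universe u

theorem exists_sum_pow {R ι : Type*} [CommRing R] {r : ℕ} (hr : r.Prime) (s : Finset ι)
    (f : ι → R) : ∃ c : R, (∑ i ∈ s, f i) ^ r = ∑ i ∈ s, f i ^ r + r * c := by
  classical
  induction s using Finset.induction_on with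
  | empty => exact ⟨0, by simp [zero_pow hr.ne_zero]⟩
  | @insert a s ha ih =>
    obtain ⟨c, hc⟩ := ih
    obtain ⟨d, hd⟩ := (Commute.all (f a) (∑ i ∈ s, f i)).exists_add_pow_prime_eq hr
    rw [Finset.sum_insert ha, Finset.sum_insert ha, hd, hc]
    exact ⟨c + f a * (∑ i ∈ s, f i) * d, by ring⟩

variable {G : Type u} [Group G] [Finite G]

/-- A character fixed by the coprime power maps is integer valued. -/
theorem exists_int_of_rational {χ : G → ℂ} (hχ : Cfsg.IsCharacter G χ)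
    (hfix : ∀ k : ℕ, k.Coprime (Nat.card G) → ∀ g, χ (g ^ k) = χ g) (g : G) :
    ∃ m : ℤ, (m : ℂ) = χ g := by
  refine BC78.Galois.exists_int_of_fixed (isIntegral_apply hχ g) fun σ => ?_
  obtain ⟨k, hk, hσ⟩ := BC78.Galois.exists_exponent_char (G := G) σ
  rw [hσ χ hχ g, hfix k hk g]

/-- `χ (g) ≡ χ (g ^ r)` modulo a prime `r`, for integral values. -/
theorem congr_pow {χ : G → ℂ} (hχ : Cfsg.IsCharacter G χ) {r : ℕ} (hr : r.Prime) (g : G)
    {a b : ℤ} (ha : (a : ℂ) = χ g) (hb : (b : ℂ) = χ (g ^ r)) : (r : ℤ) ∣ a - b := by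
  classical
  obtain ⟨n, ρ, rfl⟩ := hχ
  obtain ⟨ι, hι, e, ζ, he, -, hchar⟩ := Characters.Diag.exists_eigenbasis_card ρ g
  have hpow : ∀ i, (ρ (g ^ r)) (e i) = ζ i ^ r • e i := by
    intro i
    rw [map_pow]
    generalize r = k
    induction k with
    | zero => simp
    | succ k ih => rw [pow_succ, Module.End.mul_apply, (he i).1, map_smul, ih, smul_smul, pow_succ']
  have hb' : ρ.character (g ^ r) = ∑ i, ζ i ^ r :=
    Characters.Diag.trace_eq_sum_eigenvalues e _ _ hpow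
  have hint : ∀ i, IsIntegral ℤ (ζ i) := fun i =>
    IsIntegral.of_pow Nat.card_pos (by rw [(he i).2]; exact isIntegral_one)
  obtain ⟨c, hc⟩ := exists_sum_pow hr Finset.univ
    (fun i => (⟨ζ i, hint i⟩ : integralClosure ℤ ℂ))
  have hc' := congrArg (fun z : integralClosure ℤ ℂ => (z : ℂ)) hc
  push_cast at hc'
  rw [← hchar, ← ha, ← hb', ← hb] at hc'
  have hr0 : (r : ℂ) ≠ 0 := Nat.cast_ne_zero.2 hr.ne_zero
  have hq : IsIntegral ℤ (((a ^ r - b : ℤ) : ℚ) / (r : ℚ)) := by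
    rw [← isIntegral_algebraMap_iff (algebraMap ℚ ℂ).injective]
    have : algebraMap ℚ ℂ (((a ^ r - b : ℤ) : ℚ) / (r : ℚ)) = (c : ℂ) := by
      rw [map_div₀, map_intCast, map_natCast, div_eq_iff hr0]
      push_cast
      linear_combination hc'
    rw [this]
    exact c.2
  obtain ⟨q, hq⟩ := IsIntegrallyClosed.isIntegral_iff.1 hq
  have h1 : (r : ℤ) ∣ a ^ r - b := by
    refine ⟨q, ?_⟩
    rw [eq_intCast, eq_div_iff (Nat.cast_ne_zero.2 hr.ne_zero)] at hq
    have : ((a ^ r - b : ℤ) : ℚ) = (((r : ℤ) * q : ℤ) : ℚ) := by rw [← hq]; push_cast; ring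
    exact_mod_cast this
  haveI := Fact.mk hr
  rw [← ZMod.intCast_zmod_eq_zero_iff_dvd] at h1 ⊢
  push_cast at h1 ⊢
  rwa [ZMod.pow_card] at h1

end Cfsg.Agent.Lib.PrimeSharp.TwoP.Congr
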