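import Cfsg.Agent.Lib.PrimePrincipal.Setup
import Cfsg.Agent.Lib.PrimeSharp.Count
import Mathlib.GroupTheory.Transfer
import Mathlib.GroupTheory.GroupAction.Jordan

/-!
# Primitive groups of degree `2p`, not doubly transitive, with Sylow normaliser of order `2p`
-/

set_option autoImplicit false
set_option linter.unusedSectionVars false
set_option linter.style.haveILetI false

namespace Cfsg.Agent.Lib.PrimeSharp.TwoP.Basic

open MulAction
open Cfsg.Agent.Lib.FirstPower Average Family Periods
open Cfsg.Agent.Lib.PrimePrincipal.Setup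

/-- The hypotheses. -/
structure Hyp {α : Type*} [Fintype α] [DecidableEq α] (p : ℕ) (G : Subgroup (Equiv.Perm α))
    (P : Sylow p G) : Prop where
  lt : 3 < p
  card : Fintype.card α = 2 * p
  prim : IsPreprimitive G α
  not2 : ¬ IsMultiplyPretransitive G α 2
  nor : Nat.card (Subgroup.normalizer ((P : Subgroup G) : Set G)) = 2 * p

variable {α : Type*} [Fintype α] [DecidableEq α] {p : ℕ} [Fact p.Prime]
  {G : Subgroup (Equiv.Perm α)} {P : Sylow p G}

theorem prime_dvd_card (h : Hyp p G P) : p ∣ Nat.card G := by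
  haveI := h.prim
  obtain ⟨a⟩ : Nonempty α := Fintype.card_pos_iff.1 (by have := h.card; have := h.lt; omega)
  have h1 := (stabilizer G a).index_mul_card
  rw [index_stabilizer_of_transitive, Nat.card_eq_fintype_card (α := α), h.card] at h1
  exact h1 ▸ ((dvd_mul_left p 2).mul_right _)

theorem card_sylow (h : Hyp p G P) : Nat.card P = p := by
  have hp : p.Prime := Fact.out
  obtain ⟨k, hk⟩ := IsPGroup.iff_card.1 P.2
  have h1 : Nat.card (P : Subgroup G) ∣ 2 * p :=
    h.nor ▸ Subgroup.card_dvd_of_le Subgroup.le_normalizer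
  rw [hk] at h1
  have h2 : p ^ k ∣ p := ((Nat.coprime_primes hp Nat.prime_two).2 (by have := h.lt; omega)).pow_left k
    |>.dvd_of_dvd_mul_left h1
  have hk1 : k ≤ 1 := by
    by_contra hlt
    have := Nat.le_of_dvd hp.pos h2
    have h3 : p ^ 2 ≤ p ^ k := Nat.pow_le_pow_right hp.pos (by omega)
    nlinarith [hp.two_le]
  have hk0 : k ≠ 0 := fun h0 => P.not_dvd_index (by
    have h3 := (P : Subgroup G).index_mul_card
    rw [hk, h0, pow_zero, mul_one] at h3
    rw [h3]
    exact prime_dvd_card h)
  rw [hk, show k = 1 by omega, pow_one]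

/-- A nontrivial normal subgroup has order divisible by `p`. -/
theorem dvd_of_normal (h : Hyp p G P) (K : Subgroup G) [K.Normal] (hK : K ≠ ⊥) :
    2 * p ∣ Nat.card K := by
  haveI := h.prim
  obtain ⟨a⟩ : Nonempty α := Fintype.card_pos_iff.1 (by have := h.card; have := h.lt; omega)
  haveI : IsPretransitive K α := by
    refine IsQuasiPreprimitive.isPretransitive_of_normal ?_
    intro hf
    refine hK ((Subgroup.eq_bot_iff_forall _).2 fun x hx => Subtype.ext (Equiv.ext fun b => ?_))
    have hb : b ∈ fixedPoints K α := hf ▸ Set.mem_univ b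
    exact hb ⟨x, hx⟩
  rw [← h.card, ← Nat.card_eq_fintype_card, ← index_stabilizer_of_transitive K a]
  exact Subgroup.index_dvd_card _

theorem not_normal (h : Hyp p G P) : ¬ (P : Subgroup G).Normal := by
  intro hn
  have hne : (P : Subgroup G) ≠ ⊥ := fun e => by
    have := card_sylow h
    rw [e, Subgroup.card_bot] at this
    exact (Fact.out : p.Prime).ne_one this.symm
  have := Nat.le_of_dvd Nat.card_pos (dvd_of_normal h _ hne)
  rw [card_sylow h] at this
  have := h.lt
  omega

/-- `P` is self-centralising. -/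
theorem centralizer_eq (h : Hyp p G P) :
    Subgroup.centralizer ((P : Subgroup G) : Set G) = (P : Subgroup G) := by
  have hp : p.Prime := Fact.out
  have hP := card_sylow h
  haveI : IsCyclic (P : Subgroup G) := isCyclic_of_prime_card hP
  set C := Subgroup.centralizer ((P : Subgroup G) : Set G) with hC
  set N := Subgroup.normalizer ((P : Subgroup G) : Set G) with hN
  have hle : (P : Subgroup G) ≤ C := by
    intro a ha
    rw [Subgroup.mem_centralizer_iff]
    intro b hb
    obtain ⟨g, hg⟩ := IsCyclic.exists_zpow_surjective (G := (P : Subgroup G))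
    obtain ⟨i, hi⟩ := hg ⟨a, ha⟩
    obtain ⟨j, hj⟩ := hg ⟨b, hb⟩
    have := ((Commute.refl g).zpow_zpow j i).eq
    simp only at hi hj
    rw [hi, hj] at this
    exact congrArg Subtype.val this
  have hCN : C ≤ N := Subgroup.centralizer_le_normalizer _
  by_contra hne
  have hCeq : C = N := by
    refine Subgroup.eq_of_le_of_card_ge hCN ?_
    rw [h.nor]
    obtain ⟨k, hk⟩ := hP ▸ Subgroup.card_dvd_of_le hle
    have hk' : k ∣ 2 := by
      have h1 : Nat.card C ∣ 2 * p := h.nor ▸ Subgroup.card_dvd_of_le hCN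
      rw [hk, mul_comm 2 p] at h1
      exact Nat.dvd_of_mul_dvd_mul_left hp.pos h1
    rcases (Nat.dvd_prime Nat.prime_two).1 hk' with rfl | rfl
    · exact absurd (Subgroup.eq_of_le_of_card_ge hle (by rw [hk, mul_one]; exact hP.ge)).symm hne
    · rw [hk, mul_comm]
  have hNC : Subgroup.normalizer ((P : Subgroup G) : Set G) ≤
      Subgroup.centralizer ((P : Subgroup G) : Set G) := hCeq.ge
  have hc := MonoidHom.ker_transferSylow_isComplement' P hNC
  have hK : ¬ p ∣ Nat.card (MonoidHom.transferSylow P hNC).ker :=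
    MonoidHom.not_dvd_card_ker_transferSylow P hNC
  apply hK
  refine dvd_trans (dvd_mul_left p 2) (dvd_of_normal h _ fun hbot => ?_)
  have h1 := hc.card_mul
  rw [hbot, Subgroup.card_bot, one_mul, hP] at h1
  have h2 := dvd_of_normal h ⊤ (fun e => by
    have := Subgroup.card_top (G := G)
    rw [e, Subgroup.card_bot, ← h1] at this
    exact hp.ne_one this.symm)
  rw [Subgroup.card_top, ← h1] at h2
  have := Nat.le_of_dvd hp.pos h2
  have := hp.pos
  omega

variable {x : G}

theorem centralizer_singleton (h : Hyp p G P) (hxP : Subgroup.zpowers x = (P : Subgroup G)) :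
    Subgroup.centralizer ({x} : Set G) = (P : Subgroup G) := by
  rw [← centralizer_eq h]
  ext c
  rw [Subgroup.mem_centralizer_singleton_iff, mem_centralizer_iff' hxP]
  rfl

theorem isVPart_bot (h : Hyp p G P) (hxP : Subgroup.zpowers x = (P : Subgroup G)) :
    CharOrbit.IsVPart p x (⊥ : Subgroup G) := by
  intro y
  rw [Subgroup.mem_bot, centralizer_singleton h hxP]
  constructor
  · rintro rfl
    exact ⟨one_mem _, by rw [orderOf_one]; exact (Fact.out : p.Prime).not_dvd_one⟩
  · rintro ⟨hy, hy'⟩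
    rw [← orderOf_eq_one_iff]
    have h1 : orderOf y ∣ p := card_sylow h ▸ Subgroup.orderOf_dvd_natCard _ hy
    rcases (Nat.dvd_prime (Fact.out : p.Prime)).1 h1 with e | e
    · exact e
    · exact absurd (e ▸ dvd_refl _) hy'

theorem card_autE (h : Hyp p G P) (hx : orderOf x = p)
    (hxP : Subgroup.zpowers x = (P : Subgroup G)) :
    Nat.card (autE (pow_eq_one_of_order hx)) = 2 := by
  obtain ⟨n, -, hidx⟩ := exists_fpf hx hxP
  rw [← hidx, centralizer_eq h, Subgroup.relIndex]
  have h1 := Subgroup.index_mul_card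
    ((P : Subgroup G).subgroupOf (Subgroup.normalizer ((P : Subgroup G) : Set G)))
  rw [h.nor, Nat.card_congr (Subgroup.subgroupOfEquivOfLe Subgroup.le_normalizer).toEquiv,
    card_sylow h] at h1
  exact Nat.eq_of_mul_eq_mul_right (Fact.out : p.Prime).pos h1

theorem mem_autE_iff (h : Hyp p G P) (hx : orderOf x = p)
    (hxP : Subgroup.zpowers x = (P : Subgroup G)) (u : (ZMod p)ˣ) :
    u ∈ autE (pow_eq_one_of_order hx) ↔ u = 1 ∨ u = -1 := by
  classical
  set E := autE (pow_eq_one_of_order hx) with hE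
  have hne : (1 : (ZMod p)ˣ) ≠ -1 := by
    intro e
    have e' := congrArg (fun v : (ZMod p)ˣ => (v : ZMod p)) e
    simp only [Units.val_one, Units.val_neg] at e'
    have h2 : ((2 : ℕ) : ZMod p) = 0 := by push_cast; linear_combination e'
    have := Nat.le_of_dvd two_pos ((ZMod.natCast_eq_zero_iff 2 p).1 h2)
    have := h.lt
    omega
  have key : ∀ v ∈ E, v = 1 ∨ v = -1 := by
    intro v hv
    have h1 : (⟨v, hv⟩ : E) ^ Nat.card E = 1 := pow_card_eq_one'
    rw [card_autE h hx hxP] at h1
    have h2 := congrArg (fun w : E => ((w : (ZMod p)ˣ) : ZMod p)) h1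
    simp only [SubmonoidClass.coe_pow, Units.val_pow_eq_pow_val, OneMemClass.coe_one,
      Units.val_one] at h2
    rcases sq_eq_one_iff.1 h2 with e | e
    · exact Or.inl (Units.ext e)
    · exact Or.inr (Units.ext (by simpa using e))
  refine ⟨key u, ?_⟩
  obtain ⟨v, hv, hv1⟩ : ∃ v ∈ E, v ≠ 1 := by
    by_contra! hall
    have : E = ⊥ := (Subgroup.eq_bot_iff_forall _).2 hall
    have hc := card_autE h hx hxP
    rw [← hE, this, Subgroup.card_bot] at hc
    omega
  rintro (rfl | rfl)
  · exact one_mem _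
  · exact ((key v hv).resolve_left hv1) ▸ hv

open scoped Classical in
/-- The period of a class. -/
theorem eta_mk (h : Hyp p G P) (hx : orderOf x = p)
    (hxP : Subgroup.zpowers x = (P : Subgroup G)) (u : (ZMod p)ˣ) :
    eta (autE (pow_eq_one_of_order hx)) (QuotientGroup.mk u) =
      chr p (u : ZMod p) + chr p (-(u : ZMod p)) := by
  have hne : u ≠ -u := by
    intro e
    have e' := congrArg (fun v : (ZMod p)ˣ => (v : ZMod p)) e
    simp only [Units.val_neg] at e'
    have h2 : (2 : ZMod p) * u = 0 := by linear_combination e'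
    have h3 : ((2 : ℕ) : ZMod p) = 0 := by
      push_cast
      exact (mul_eq_zero.1 h2).resolve_right u.ne_zero
    have := Nat.le_of_dvd two_pos ((ZMod.natCast_eq_zero_iff 2 p).1 h3)
    have := h.lt
    omega
  rw [eta, show (Finset.univ.filter fun v : (ZMod p)ˣ => (QuotientGroup.mk v :
      (ZMod p)ˣ ⧸ autE (pow_eq_one_of_order hx)) = QuotientGroup.mk u) = {u, -u} from ?_,
    Finset.sum_pair hne, Units.val_neg]
  ext v
  rw [Finset.mem_filter, QuotientGroup.eq, mem_autE_iff h hx hxP, Finset.mem_insert,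
    Finset.mem_singleton]
  simp only [Finset.mem_univ, true_and, inv_mul_eq_one]
  refine or_congr_right ⟨fun e => ?_, fun e => ?_⟩
  · rw [inv_mul_eq_iff_eq_mul, mul_neg, mul_one] at e
    rw [e, neg_neg]
  · subst e
    rw [inv_mul_eq_iff_eq_mul, mul_neg, mul_one, neg_neg]

theorem nfix_eq_zero (h : Hyp p G P) {g : G} (hg : orderOf g = p) : Count.nfix g = 0 := by
  classical
  have hp : p.Prime := Fact.out
  have hH : IsPGroup p (Subgroup.zpowers g) :=
    IsPGroup.of_card (n := 1) (by rw [Nat.card_zpowers, hg, pow_one])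
  by_contra hne
  have hg1 : g ≠ 1 := fun e => by rw [e, orderOf_one] at hg; exact hp.ne_one hg.symm
  have hlt := Count.nfix_add_two_le hg1
  rw [h.card] at hlt
  have hfix : fixedPoints (Subgroup.zpowers g) α = fixedBy α g := by
    ext a
    refine ⟨fun ha => ha ⟨g, Subgroup.mem_zpowers g⟩, fun ha k => ?_⟩
    have : Subgroup.zpowers g ≤ stabilizer G a := Subgroup.zpowers_le.2 ha
    exact this k.2
  have hmod := hH.card_modEq_card_fixedPoints α
  rw [hfix, Nat.card_eq_fintype_card (α := α), h.card] at hmod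
  have hd : p ∣ Count.nfix g := Nat.modEq_zero_iff_dvd.1
    (hmod.symm.trans (Nat.modEq_zero_iff_dvd.2 (dvd_mul_left p 2)))
  obtain ⟨k, hk⟩ := hd
  have hk1 : k = 1 := by
    rcases k with _ | _ | k
    · rw [mul_zero] at hk; exact absurd hk hne
    · rfl
    · rw [hk] at hlt; nlinarith [hp.two_le]
  rw [hk1, mul_one] at hk
  -- Jordan
  set s : Set α := fixedBy α g with hs
  have hsn : s.ncard = p - 1 + 1 := by
    rw [← Nat.card_coe_set_eq, Nat.sub_add_cancel hp.one_le]
    exact hk
  refine h.not2 (h.prim.is_two_pretransitive hsn (by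
    rw [Nat.card_eq_fintype_card, h.card]; have := hp.two_le; omega) ?_)
  refine ⟨fun u v => ?_⟩
  have hgS : g ∈ fixingSubgroup G s := fun y => y.2
  have hu : g • (u : α) ≠ u := fun e => u.2 e
  have hi := hH.card_orbit (u : α)
  obtain ⟨i, hi⟩ := hi
  set O := orbit (Subgroup.zpowers g) (u : α) with hO
  have hsub : ∀ y ∈ O, y ∉ s := by
    rintro _ ⟨⟨c, hc⟩, rfl⟩ hy
    have h1 : Subgroup.zpowers g ≤ stabilizer G (c • (u : α)) := Subgroup.zpowers_le.2 hy
    have h2 : c • c • (u : α) = c • (u : α) := h1 hc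
    have h3 : c • (u : α) = u := smul_left_cancel c h2
    exact u.2 (h3 ▸ hy)
  have hle : Nat.card O ≤ p := by
    have h1 : Nat.card O ≤ Nat.card (sᶜ : Set α) :=
      Nat.card_mono (Set.toFinite _) fun y hy => hsub y hy
    have h2 : Nat.card (sᶜ : Set α) = p := by
      rw [Nat.card_coe_set_eq, Set.ncard_compl, Nat.card_eq_fintype_card, h.card, hsn,
        Nat.sub_add_cancel hp.one_le]
      omega
    omega
  have hne1 : Nat.card O ≠ 1 := by
    intro h1
    rw [Nat.card_eq_one_iff_unique] at h1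
    haveI := h1.1
    have := Subsingleton.elim (α := O) ⟨g • (u : α), ⟨⟨g, Subgroup.mem_zpowers g⟩, rfl⟩⟩
      ⟨(u : α), mem_orbit_self _⟩
    exact hu (congrArg Subtype.val this)
  have hOp : Nat.card O = p := by
    rcases i with _ | i
    · rw [pow_zero] at hi; exact absurd hi hne1
    · exact le_antisymm hle (hi ▸ Nat.le_self_pow (by omega) p)
  have hOeq : O = sᶜ := by
    refine Set.eq_of_subset_of_ncard_le (fun y hy => hsub y hy) ?_ (Set.toFinite _)
    rw [Set.ncard_compl, Nat.card_eq_fintype_card, h.card, hsn, ← Nat.card_coe_set_eq, hOp,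
      Nat.sub_add_cancel hp.one_le]
    omega
  have hv : (v : α) ∈ O := hOeq ▸ v.2
  obtain ⟨⟨c, hc⟩, hcv⟩ := hv
  exact ⟨⟨c, (Subgroup.zpowers_le.2 hgS) hc⟩, Subtype.ext hcv⟩

end Cfsg.Agent.Lib.PrimeSharp.TwoP.Basic
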