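import Cfsg.Agent.Lib.PrimeSharp.TwoP.Basic
import Cfsg.Agent.Lib.PrimeSharp.TwoP.Congr
import Cfsg.Agent.Lib.PrimePrincipal.Main
import Cfsg.Agent.Lib.PermTrans.Constituents
import Cfsg.Agent.Lib.Characters.Kernel
import Cfsg.Agent.Lib.Characters.Transitive

/-!
# The character of degree `p - 1` in degree `2p`
-/

set_option autoImplicit false
set_option linter.unusedSectionVars false
set_option linter.style.haveILetI false

namespace Cfsg.Agent.Lib.PrimeSharp.TwoP.Character

open MulAction
open Cfsg.Agent.Lib.FirstPower Average Family Periods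
open Cfsg.Agent.Lib.PrimePrincipal.Setup Cfsg.Agent.Lib.PrimeSharp.TwoP.Basic
open Cfsg.Agent.Lib.Characters.Basic Cfsg.Agent.Lib.Characters.Complete
open Cfsg.Agent.Lib.Induced.Basic
open scoped ComplexConjugate

universe u

variable {α : Type u} [Fintype α] [DecidableEq α] {p : ℕ} [Fact p.Prime]
  {G : Subgroup (Equiv.Perm α)} {P : Sylow p G} {x : G}

theorem orderOf_pow_unit (hx : orderOf x = p) (u : (ZMod p)ˣ) :
    orderOf (x ^ (u : ZMod p).val) = p :=
  orderOf_eq_prime (by rw [← pow_mul, mul_comm, pow_mul, pow_eq_one_of_order hx, one_pow])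
    (pow_unit_ne_one hx u)

theorem aval_bot (χ : G → ℂ) (z : ZMod p) : aval x (⊥ : Subgroup G) χ z = χ (x ^ z.val) := by
  rw [aval, finsum_eq_single _ (1 : (⊥ : Subgroup G))]
  · simp
  · intro v hv
    exact absurd (Subtype.ext (Subgroup.mem_bot.mp v.2)) hv

/-- A `p`-singular element is conjugate to a power of `x`. -/
theorem exists_conj_pow (h : Hyp p G P) (hx : orderOf x = p)
    (hxP : Subgroup.zpowers x = (P : Subgroup G)) {g : G} (hg : p ∣ orderOf g) :
    ∃ (c : G) (u : (ZMod p)ˣ), c * g * c⁻¹ = x ^ (u : ZMod p).val := by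
  have hp : p.Prime := Fact.out
  set y := g ^ (orderOf g / p) with hy
  have hyo : orderOf y = p := orderOf_pow_orderOf_div (orderOf_pos g).ne' hg
  obtain ⟨c, hc⟩ := Cfsg.Agent.Lib.FpfBlock.Setting.exists_conj_mem (P := P) (g := y)
    ⟨1, by rw [hyo, pow_one]⟩
  have hc1 : c * y * c⁻¹ ≠ 1 := by
    intro e
    rw [conj_eq_one_iff] at e
    rw [e, orderOf_one] at hyo
    exact hp.ne_one hyo.symm
  obtain ⟨w, hw⟩ := exists_unit hx hxP hc hc1
  have hcomm : Commute (c * g * c⁻¹) (c * y * c⁻¹) := by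
    rw [Commute, SemiconjBy, hy]
    group
  rw [hw] at hcomm
  have hcx : Commute (c * g * c⁻¹) x := by
    have := hcomm.pow_right ((w⁻¹ : (ZMod p)ˣ) : ZMod p).val
    rwa [← pow_val_mul (pow_eq_one_of_order hx), ← Units.val_mul, mul_inv_cancel, Units.val_one,
      pow_val_one (pow_eq_one_of_order hx)] at this
  have hmem : c * g * c⁻¹ ∈ (P : Subgroup G) :=
    centralizer_singleton h hxP ▸ Subgroup.mem_centralizer_singleton_iff.2 hcx.eq
  have hne : c * g * c⁻¹ ≠ 1 := by
    intro e
    rw [conj_eq_one_iff] at e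
    rw [e, orderOf_one] at hg
    exact hp.not_dvd_one hg
  obtain ⟨u, hu⟩ := exists_unit hx hxP hmem hne
  exact ⟨c, u, hu⟩

theorem chr_unit_ne_one (u : (ZMod p)ˣ) : chr p (u : ZMod p) ≠ 1 := by
  intro e
  rw [← ZMod.natCast_zmod_val (u : ZMod p), chr_natCast, root_spec.pow_eq_one_iff_dvd] at e
  have h0 := Nat.eq_zero_of_dvd_of_lt e (ZMod.val_lt _)
  exact u.ne_zero ((ZMod.val_eq_zero _).1 h0)

/-- The degree two alternative is absurd. -/
theorem no_linear (h : Hyp p G P) (hx : orderOf x = p)
    (hxP : Subgroup.zpowers x = (P : Subgroup G)) (χ θ : Cfsg.IrrCharacter G)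
    (hχ1 : (χ : G → ℂ) 1 = 1) (hχx : (χ : G → ℂ) x = 1) (hθ1 : (θ : G → ℂ) 1 = 2)
    (hθx : ∀ u : (ZMod p)ˣ, (θ : G → ℂ) (x ^ (u : ZMod p).val) =
      chr p (u : ZMod p) + chr p (-(u : ZMod p)))
    (hreg : ∀ g : G, ¬ p ∣ orderOf g → 1 + (χ : G → ℂ) g = (θ : G → ℂ) g) : False := by
  set K := Characters.Kernel.charKer (isCharacter_irr χ) with hK
  set L := Characters.Kernel.charKer (isCharacter_irr θ) with hL
  haveI : K.Normal := Characters.Kernel.charKer_normal _
  haveI : L.Normal := Characters.Kernel.charKer_normal _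
  have hLbot : L = ⊥ := by
    by_contra hne
    obtain ⟨⟨y, hyL⟩, hy⟩ := exists_prime_orderOf_dvd_card' (G := L) p
      ((dvd_mul_left p 2).trans (dvd_of_normal h L hne))
    rw [Subgroup.orderOf_mk] at hy
    obtain ⟨c, u, hu⟩ := exists_conj_pow h hx hxP (g := y) (hy ▸ dvd_refl _)
    have hmem : x ^ (u : ZMod p).val ∈ L := hu ▸ (inferInstance : L.Normal).conj_mem y hyL c
    rw [hL, Characters.Kernel.mem_charKer, hθx, hθ1] at hmem
    have h1 : chr p (u : ZMod p) * chr p (-(u : ZMod p)) = 1 := by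
      rw [← chr_add, add_neg_cancel, chr_zero]
    have h2 : (chr p (u : ZMod p) - 1) ^ 2 = 0 := by linear_combination chr p (u : ZMod p) * hmem - h1
    exact chr_unit_ne_one u (sub_eq_zero.1 ((pow_eq_zero_iff two_ne_zero).1 h2))
  have hxK : x ∈ K := by rw [hK, Characters.Kernel.mem_charKer, hχx, hχ1]
  have hKp : IsPGroup p K := by
    rintro ⟨g, hg⟩
    by_cases hd : p ∣ orderOf g
    · obtain ⟨c, u, hu⟩ := exists_conj_pow h hx hxP hd
      refine ⟨1, Subtype.ext ?_⟩
      have h1 : (c * g * c⁻¹) ^ p = 1 := by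
        rw [hu, ← pow_mul, mul_comm, pow_mul, pow_eq_one_of_order hx, one_pow]
      rw [conj_pow, conj_eq_one_iff] at h1
      simpa using h1
    · refine ⟨0, Subtype.ext ?_⟩
      have hgL : g ∈ L := by
        rw [hL, Characters.Kernel.mem_charKer, hθ1, ← hreg g hd]
        rw [hK, Characters.Kernel.mem_charKer, hχ1] at hg
        rw [hg]
        norm_num
      rw [hLbot, Subgroup.mem_bot] at hgL
      simpa using hgL
  have hle : (P : Subgroup G) ≤ K := hxP ▸ Subgroup.zpowers_le.2 hxK
  exact not_normal h (P.is_maximal' hKp hle ▸ inferInstance)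

open scoped Classical in
/-- The character of degree `p - 1` and the exceptional family. -/
theorem exists_chars (h : Hyp p G P) (hx : orderOf x = p)
    (hxP : Subgroup.zpowers x = (P : Subgroup G)) :
    ∃ (χ : Cfsg.IrrCharacter G) (θ : (ZMod p)ˣ → Cfsg.IrrCharacter G)
      (T : Finset (Cfsg.IrrCharacter G)),
      (χ : G → ℂ) 1 = (p : ℂ) - 1 ∧ χ ∉ T ∧ oneChar G ∉ T ∧ χ ≠ oneChar G ∧
      T.card * 2 = p - 1 ∧
      (∀ ξ ∈ T, ∀ g : G, ¬ p ∣ orderOf g → (ξ : G → ℂ) g = (χ : G → ℂ) g - 1) ∧
      (∀ g : G, ∃ m : ℤ, (m : ℂ) = (χ : G → ℂ) g) ∧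
      (∀ g : G, g ≠ 1 → (χ : G → ℂ) g ≠ (χ : G → ℂ) 1) ∧
      (∀ u : (ZMod p)ˣ, (χ : G → ℂ) (x ^ (u : ZMod p).val) = -1) ∧
      (∀ u, θ u ∈ T) ∧
      ∀ u w : (ZMod p)ˣ, (θ u : G → ℂ) (x ^ (w : ZMod p).val) =
        -(chr p ((u * w : (ZMod p)ˣ) : ZMod p) + chr p (-((u * w : (ZMod p)ˣ) : ZMod p))) := by
  have hp : p.Prime := Fact.out
  have hP := card_sylow h
  have h2 := PrimePrincipal.Setup.not_sq_dvd P hP
  haveI := Fintype.ofFinite G
  haveI := Fintype.ofFinite (Cfsg.IrrCharacter G)
  haveI := Fintype.ofFinite (autE (pow_eq_one_of_order hx))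
  haveI := Fintype.ofFinite ((ZMod p)ˣ ⧸ autE (pow_eq_one_of_order hx))
  haveI := h.prim
  haveI : Nonempty α := Fintype.card_pos_iff.1 (by have := h.card; have := h.lt; omega)
  set E := autE (pow_eq_one_of_order hx) with hE
  obtain ⟨R, Y, a, δ, hYinj, hYR, hδ, h1R, ha1, hRc, hRv, hYv, hout, hYreg, hrel⟩ :=
    exists_family hx h2 (isVPart_bot h hxP)
  rw [card_autE h hx hxP] at hRc
  obtain ⟨χ, hχe⟩ := Finset.card_eq_one.1
    (show (R.erase (oneChar G)).card = 1 by rw [Finset.card_erase_of_mem h1R, hRc])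
  have hχR : χ ∈ R ∧ χ ≠ oneChar G := by
    have : χ ∈ R.erase (oneChar G) := by rw [hχe]; exact Finset.mem_singleton_self _
    exact ⟨Finset.mem_of_mem_erase this, Finset.ne_of_mem_erase this⟩
  have hR2 : ∀ ξ ∈ R, ξ = oneChar G ∨ ξ = χ := by
    intro ξ hξ
    by_cases e : ξ = oneChar G
    · exact Or.inl e
    · exact Or.inr (Finset.mem_singleton.1 (hχe ▸ Finset.mem_erase.2 ⟨e, hξ⟩))
  have hsumR : ∀ f : Cfsg.IrrCharacter G → ℂ, ∑ ξ ∈ R, f ξ = f (oneChar G) + f χ := fun f => by
    rw [← Finset.add_sum_erase _ _ h1R, hχe, Finset.sum_singleton]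
  have hχv : ∀ u : (ZMod p)ˣ, (χ : G → ℂ) (x ^ (u : ZMod p).val) = a χ := fun u => by
    have := (hRv χ hχR.1).2 u 1 (one_mem _)
    rwa [mul_one] at this
  have hYv' : ∀ q (u : (ZMod p)ˣ), (Y q : G → ℂ) (x ^ (u : ZMod p).val) =
      δ * eta E (q * QuotientGroup.mk u) := fun q u => by
    have := hYv q u 1 (one_mem _)
    rwa [mul_one] at this
  have hout' : ∀ ξ, ξ ∉ R → (∀ q, Y q ≠ ξ) → ∀ u : (ZMod p)ˣ,
      (ξ : G → ℂ) (x ^ (u : ZMod p).val) = 0 := fun ξ h1 h3 u => by
    rw [← aval_bot (ξ : G → ℂ)]; exact hout ξ h1 h3 u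
  set π : G → ℂ := fun g => (Count.nfix g : ℂ) with hπdef
  have hπchar : Cfsg.IsCharacter G π := by
    have := isCharacter_character (Cfsg.permRep ℂ G α)
    rwa [PermTrans.Constituents.character_permRep] at this
  have hn : ∀ ξ : Cfsg.IrrCharacter G, ∃ n : ℕ, Cfsg.classInner π (ξ : G → ℂ) = n := fun ξ =>
    exists_classInner_nat hπchar (isCharacter_irr ξ)
  choose n hn using hn
  have hn1 : n (oneChar G) = 1 := by
    have e : Cfsg.classInner π (fun _ => (1 : ℂ)) = 1 := Characters.Transitive.classInner_permChar_one α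
    have h' := hn (oneChar G)
    rw [show ((oneChar G : Cfsg.IrrCharacter G) : G → ℂ) = fun _ => (1 : ℂ) from
      funext oneChar_apply, e] at h'
    exact_mod_cast h'.symm
  have hexp : ∀ g, π g = ∑ ξ, (n ξ : ℂ) * (ξ : G → ℂ) g := by
    intro g
    rw [congrFun (classFunction_eq_sum (isClassFunction_of_isCharacter hπchar)) g, Finset.sum_apply]
    exact Finset.sum_congr rfl fun ξ _ => by rw [Pi.smul_apply, smul_eq_mul, hn]
  have hdisj : Disjoint R (Finset.univ.image Y) := Finset.disjoint_left.2 fun ξ hξ hξY => by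
    obtain ⟨q, -, rfl⟩ := Finset.mem_image.1 hξY
    exact hYR q hξ
  -- the equation on `x ^ u`
  have heq : ∀ u : (ZMod p)ˣ, (0 : ℂ) = 1 + (n χ : ℂ) * a χ +
      δ * ∑ q, (n (Y q) : ℂ) * eta E (q * QuotientGroup.mk u) := by
    intro u
    have h0 : π (x ^ (u : ZMod p).val) = 0 := by
      rw [hπdef]
      simp [Basic.nfix_eq_zero h (orderOf_pow_unit hx u)]
    rw [hexp, ← Finset.sum_subset (Finset.subset_univ (R ∪ Finset.univ.image Y)) (fun ξ _ hξ => by
      rw [Finset.mem_union, not_or] at hξ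
      rw [hout' ξ hξ.1 (fun q e => hξ.2 (Finset.mem_image.2 ⟨q, Finset.mem_univ _, e⟩)) u,
        mul_zero]),
      Finset.sum_union hdisj, hsumR, Finset.sum_image (fun q _ q' _ e => hYinj e), hn1,
      oneChar_apply, hχv] at h0
    simp only [hYv'] at h0
    rw [← h0, Finset.mul_sum]
    push_cast
    congr 1
    · ring
    · exact Finset.sum_congr rfl fun q _ => by ring
  -- all multiplicities of the exceptional family agree
  have hconst : ∀ q', (p : ℂ) * (n (Y q') : ℂ) * δ =
      1 + (n χ : ℂ) * a χ + 2 * δ * ∑ q, (n (Y q) : ℂ) := by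
    intro q'
    have hall : (0 : ℂ) = ∑ r, (1 + (n χ : ℂ) * a χ + δ * ∑ q, (n (Y q) : ℂ) * eta E (q * r)) *
        conj (eta E (q' * r)) := by
      rw [Finset.sum_eq_zero]
      intro r _
      obtain ⟨u, rfl⟩ := QuotientGroup.mk_surjective r
      rw [← heq u, zero_mul]
    have e1 : ∑ r, conj (eta E (q' * r)) = -1 := by
      rw [← map_sum, Finset.sum_congr rfl (fun r _ => congrArg (eta E) (mul_comm q' r)),
        sum_eta_shift, map_neg, map_one]
    have e2 : ∀ q, ∑ r, eta E (q * r) * conj (eta E (q' * r)) =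
        (if q = q' then (p : ℂ) else 0) - 2 := fun q => by
      have := sum_eta_mul_conj E q q'
      rw [← Nat.card_eq_fintype_card, show Nat.card E = 2 from card_autE h hx hxP] at this
      push_cast at this
      rw [← this]
      exact Finset.sum_congr rfl fun r _ => by rw [mul_comm q r, mul_comm q' r]
    simp only [add_mul, Finset.mul_sum, Finset.sum_mul] at hall
    rw [Finset.sum_add_distrib, Finset.sum_add_distrib, Finset.sum_comm] at hall
    simp only [mul_assoc, ← Finset.mul_sum, e1, e2] at hall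
    simp only [mul_sub, Finset.sum_sub_distrib, mul_ite, mul_zero, Finset.sum_ite_eq',
      Finset.mem_univ, if_true, ← Finset.sum_mul] at hall
    linear_combination -hall
  set c := n (Y 1) with hcdef
  have hδ0 : (δ : ℂ) ≠ 0 := by rcases hδ with e | e <;> rw [e] <;> norm_num
  have hc : ∀ q, n (Y q) = c := fun q => by
    have e := (hconst q).trans (hconst 1).symm
    have hpne : (p : ℂ) ≠ 0 := Nat.cast_ne_zero.2 hp.ne_zero
    exact_mod_cast mul_left_cancel₀ hpne (mul_right_cancel₀ hδ0 e)
  have hbase : 1 + (n χ : ℤ) * a χ - δ * (c : ℤ) = 0 := by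
    have e := heq 1
    simp only [hc, ← Finset.mul_sum, QuotientGroup.mk_one] at e
    rw [sum_eta_shift] at e
    have e' : ((1 + (n χ : ℤ) * a χ - δ * (c : ℤ) : ℤ) : ℂ) = 0 := by
      push_cast
      linear_combination -e
    exact_mod_cast e'
  -- degrees
  set t := Fintype.card ((ZMod p)ˣ ⧸ E) with ht
  have ht2 : t * 2 = p - 1 := by
    have := card_mul_card (E := E)
    rw [← Nat.card_eq_fintype_card (α := E), show Nat.card E = 2 from card_autE h hx hxP] at this
    exact this
  obtain ⟨d, hd, hd1⟩ := exists_degree_pos χ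
  obtain ⟨D, hD, hD1⟩ := exists_degree_pos (Y 1)
  have hYD : ∀ q, (Y q : G → ℂ) 1 = D := fun q => by
    rw [hYreg q 1 (by rw [orderOf_one]; exact hp.not_dvd_one), hD1]
  have hdD : 1 + a χ * (d : ℤ) = δ * (D : ℤ) := by
    have e := hrel 1 (by rw [orderOf_one]; exact hp.not_dvd_one)
    rw [hsumR, oneChar_apply, ha1, hd1, hD1] at e
    exact_mod_cast (by push_cast at e ⊢; linear_combination e :
      ((1 + a χ * (d : ℤ) : ℤ) : ℂ) = ((δ * (D : ℤ) : ℤ) : ℂ))
  have hdmod : (p : ℤ) ∣ a χ - (d : ℤ) := by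
    have := PrimePrincipal.Main.degree_congr hx χ hχv
    rw [show (Cfsg.charDegree (χ : G → ℂ) : ℤ) = d from by
      have e := Blocks.char_one_eq_degree χ
      rw [hd1] at e
      exact_mod_cast e.symm] at this
    exact Int.modEq_iff_dvd.1 this
  choose deg hdegpos hdeg using fun ξ : Cfsg.IrrCharacter G => exists_degree_pos ξ
  have hdegsum : ∑ ξ, n ξ * deg ξ = 2 * p := by
    have e := hexp 1
    rw [show π 1 = ((2 * p : ℕ) : ℂ) from by rw [hπdef]; simp [Count.nfix_one, h.card]] at e
    simp only [hdeg] at e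
    exact_mod_cast e.symm
  have hle : 1 + n χ * d + t * (c * D) ≤ 2 * p := by
    rw [← hdegsum]
    refine le_trans (le_of_eq ?_) (Finset.sum_le_sum_of_subset
      (Finset.subset_univ (R ∪ Finset.univ.image Y)))
    rw [Finset.sum_union hdisj, ← Finset.add_sum_erase _ _ h1R, hχe, Finset.sum_singleton,
      Finset.sum_image (fun q _ q' _ e => hYinj e), hn1,
      Finset.sum_congr rfl (g := fun _ => c * D) (fun q _ => by
        rw [hc]
        have e := hdeg (Y q)
        rw [hYD] at e
        rw [show deg (Y q) = D from by exact_mod_cast e.symm]),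
      Finset.sum_const, Finset.card_univ, smul_eq_mul]
    have e1 : deg (oneChar G) = 1 := by
      have e := hdeg (oneChar G)
      rw [oneChar_apply] at e
      exact_mod_cast e.symm
    have e2 : deg χ = d := by
      have e := hdeg χ
      rw [hd1] at e
      exact_mod_cast e.symm
    rw [e1, e2]
  have hp5 : 5 ≤ p := by
    have := h.lt
    have h4 : p ≠ 4 := fun e => absurd hp (e ▸ by decide)
    omega
  have ht' : 2 ≤ t := by omega
  have haχ := (hRv χ hχR.1).1
  -- the case analysis
  have hc0 : c = 0 := by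
    by_contra hc0
    have hc1 : 1 ≤ c := Nat.pos_of_ne_zero hc0
    obtain ⟨k, hk⟩ := hdmod
    have htD : t * D ≤ 2 * p - 1 := by
      have : t * D ≤ t * (c * D) := Nat.mul_le_mul_left _ (Nat.le_mul_of_pos_left _ hc1)
      omega
    rcases hδ with e | e
    · -- `δ = 1`
      have hD2 : D = 2 := by
        rcases haχ with ea | ea <;> rw [ea, e] at hdD <;> rw [ea] at hk
        · have : 2 * D ≤ t * D := Nat.mul_le_mul_right _ ht'
          have : k ≤ 0 := by
            by_contra hk0
            have : (p : ℤ) * 1 ≤ p * k := mul_le_mul_of_nonneg_left (by omega) (by positivity)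
            omega
          rcases eq_or_lt_of_le this with hk0 | hk0
          · rw [hk0, mul_zero] at hk; omega
          · have : (p : ℤ) * k ≤ p * (-1) := mul_le_mul_of_nonneg_left (by omega) (by positivity)
            omega
        · omega
      have haa : a χ = 1 ∧ d = 1 := by
        rcases haχ with ea | ea <;> rw [ea, e, hD2] at hdD <;> constructor <;> omega
      refine no_linear h hx hxP χ (Y 1) (by rw [hd1, haa.2, Nat.cast_one]) ?_
        (by rw [hD1, hD2]; norm_num) (fun u => ?_) fun g hg => ?_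
      · have := hχv 1
        rwa [Units.val_one, pow_val_one (pow_eq_one_of_order hx), haa.1, Int.cast_one] at this
      · rw [hYv', e, Int.cast_one, one_mul, one_mul, eta_mk h hx hxP]
      · have h1 := hrel g hg
        rw [hsumR, oneChar_apply, ha1, haa.1, e] at h1
        push_cast at h1
        linear_combination h1
    · -- `δ = -1`
      rcases haχ with ea | ea <;> rw [ea, e] at hdD hbase <;> rw [ea] at hk
      · omega
      · have hk1 : k ≤ -1 := by
          by_contra hk1
          have : (0 : ℤ) ≤ p * k := mul_nonneg (by positivity) (by omega)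
          omega
        have hd' : (p : ℤ) ≤ d + 1 := by
          have : (p : ℤ) * k ≤ p * (-1) := mul_le_mul_of_nonneg_left hk1 (by positivity)
          omega
        have hD' : (D : ℤ) = d - 1 := by omega
        have hnc : n χ = 1 + c := by omega
        have : (1 + c) * d ≤ n χ * d := by rw [hnc]
        have : 2 * d ≤ (1 + c) * d := Nat.mul_le_mul_right _ (by omega)
        have : 2 * D ≤ t * (c * D) :=
          le_trans (Nat.mul_le_mul_right _ ht') (Nat.mul_le_mul_left _ (Nat.le_mul_of_pos_left _ hc1))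
        omega
  rw [hc0] at hbase
  have hna : n χ = 1 ∧ a χ = -1 := by
    rcases haχ with ea | ea <;> rw [ea] at hbase <;> constructor <;> omega
  obtain ⟨k, hk⟩ := hdmod
  rw [hna.2] at hk hdD
  have hdle : d ≤ 2 * p - 1 := by rw [hna.1] at hle; omega
  have hd' : d = p - 1 := by
    have hk1 : k ≤ -1 := by
      by_contra hk1
      have : (0 : ℤ) ≤ p * k := mul_nonneg (by positivity) (by omega)
      omega
    have hk2 : -2 ≤ k := by
      by_contra hk2
      have : (p : ℤ) * k ≤ p * (-3) := mul_le_mul_of_nonneg_left (by omega) (by positivity)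
      omega
    obtain rfl | rfl : k = -1 ∨ k = -2 := by omega
    · omega
    exfalso
    -- `π = 1 + χ`
    have hd2 : d = 2 * p - 1 := by omega
    have hrest : ∀ ξ, ξ ∉ ({oneChar G, χ} : Finset _) → n ξ = 0 := by
      intro ξ hξ
      have e := hdegsum
      rw [← Finset.sum_sdiff (Finset.subset_univ ({oneChar G, χ} : Finset _)),
        Finset.sum_pair (Ne.symm hχR.2), hn1, hna.1] at e
      have e1 : deg (oneChar G) = 1 := by
        have e := hdeg (oneChar G)
        rw [oneChar_apply] at e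
        exact_mod_cast e.symm
      have e2 : deg χ = d := by
        have e := hdeg χ
        rw [hd1] at e
        exact_mod_cast e.symm
      have h0 : ∑ ξ ∈ Finset.univ \ ({oneChar G, χ} : Finset _), n ξ * deg ξ = 0 := by omega
      have := Finset.sum_eq_zero_iff.1 h0 ξ (Finset.mem_sdiff.2 ⟨Finset.mem_univ _, hξ⟩)
      exact (mul_eq_zero.1 this).resolve_right (hdegpos ξ).ne'
    have hπ : ∀ g, π g = 1 + (χ : G → ℂ) g := fun g => by
      rw [hexp, ← Finset.sum_subset (Finset.subset_univ ({oneChar G, χ} : Finset _))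
        (fun ξ _ hξ => by rw [hrest ξ hξ, Nat.cast_zero, zero_mul]),
        Finset.sum_pair (Ne.symm hχR.2), hn1, hna.1, Nat.cast_one, one_mul, one_mul, oneChar_apply]
    apply h.not2
    have e1 : ∑ g : G, π g = (Nat.card G : ℂ) := by
      have e : Cfsg.classInner π (fun _ => (1 : ℂ)) = 1 := Characters.Transitive.classInner_permChar_one α
      rw [Cfsg.classInner, inv_mul_eq_one₀ natCard_ne_zero] at e
      rw [e]
      simp
    have e2 : ∑ g : G, π g * π g = 2 * (Nat.card G : ℂ) := by
      have ee : ∀ g, π g = conj (π g) := fun g => by rw [hπdef]; simp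
      have e : Cfsg.classInner π π = 2 := by
        rw [show π = (oneChar G : G → ℂ) + (χ : G → ℂ) from funext fun g => by
          rw [hπ]; simp [oneChar_apply]]
        rw [classInner_add_left, classInner_add_right, classInner_add_right,
          classInner_self_irr, classInner_self_irr, classInner_irr_of_ne hχR.2,
          classInner_irr_of_ne (Ne.symm hχR.2)]
        norm_num
      rw [Cfsg.classInner, inv_mul_eq_iff_eq_mul₀ natCard_ne_zero] at e
      rw [mul_comm (2 : ℂ), ← e]
      exact Finset.sum_congr rfl fun g _ => by rw [← ee]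
    have e3 : ∑ g : G, (Count.nfix g).descFactorial 2 = Nat.card G := by
      have : ((∑ g : G, (Count.nfix g).descFactorial 2 : ℕ) : ℂ) = Nat.card G := by
        push_cast
        rw [Finset.sum_congr rfl (g := fun g : G => π g * π g - π g) (fun g _ => by
          show ((Count.nfix g).descFactorial 2 : ℂ) =
            (Count.nfix g : ℂ) * (Count.nfix g : ℂ) - (Count.nfix g : ℂ)
          generalize Count.nfix g = f
          rcases f with _ | m
          · simp
          · simp [Nat.descFactorial]; ring), Finset.sum_sub_distrib, e1, e2]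
        ring
      exact_mod_cast this
    have hburn := MulAction.sum_card_fixedBy_eq_card_orbits_mul_card_group G (Fin 2 ↪ α)
    rw [Finset.sum_congr rfl (g := fun g : G => (Count.nfix g).descFactorial 2) (fun g _ => by
      rw [Fintype.card_congr (Count.fixedEmbEquiv 2 g), Fintype.card_embedding_eq, Fintype.card_fin,
        Count.nfix, Nat.card_eq_fintype_card]), e3, Nat.card_eq_fintype_card (α := G)] at hburn
    have hone : Fintype.card (Quotient (orbitRel G (Fin 2 ↪ α))) = 1 :=
      Nat.eq_of_mul_eq_mul_right Fintype.card_pos (by rw [one_mul]; exact hburn.symm)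
    exact (pretransitive_iff_subsingleton_quotient G (Fin 2 ↪ α)).2
      (Fintype.card_le_one_iff_subsingleton.1 hone.le)
  have hδ' : δ = -1 := by
    rcases hδ with e | e
    · rw [e] at hdD; omega
    · exact e
  have hχx : ∀ u : (ZMod p)ˣ, (χ : G → ℂ) (x ^ (u : ZMod p).val) = -1 := fun u => by
    rw [hχv, hna.2, Int.cast_neg, Int.cast_one]
  have hrat : ∀ k : ℕ, k.Coprime (Nat.card G) → ∀ g, (χ : G → ℂ) (g ^ k) = (χ : G → ℂ) g := by
    intro k hk g
    set ξ : Cfsg.IrrCharacter G := ⟨_, BC78.PowChar.isIrrCharacter_pow χ.2 hk⟩ with hξ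
    have hkp : (k : ZMod p) ≠ 0 := fun e => by
      rw [ZMod.natCast_eq_zero_iff] at e
      exact hp.not_dvd_one (hk ▸ Nat.dvd_gcd e (prime_dvd_card h))
    have hξv : ∀ u : (ZMod p)ˣ, (ξ : G → ℂ) (x ^ (u : ZMod p).val) = -1 := fun u => by
      show (χ : G → ℂ) ((x ^ (u : ZMod p).val) ^ k) = -1
      rw [← pow_val_natCast (pow_eq_one_of_order hx) ((u : ZMod p).val), ← pow_mul,
        ← pow_val_natCast (pow_eq_one_of_order hx), Nat.cast_mul]
      convert hχx (u * Units.mk0 (k : ZMod p) hkp) using 3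
      simp
    suffices ξ = χ by
      have := congrArg (fun f : Cfsg.IrrCharacter G => (f : G → ℂ) g) this
      simpa [hξ] using this
    by_cases hR : ξ ∈ R
    · refine (hR2 ξ hR).resolve_left fun e => ?_
      have := hξv 1
      rw [e, oneChar_apply] at this
      norm_num at this
    exfalso
    by_cases hY : ∃ q, Y q = ξ
    · obtain ⟨q, hq⟩ := hY
      have hall : ∀ r, eta E (r * q) = 1 := by
        intro r
        obtain ⟨u, rfl⟩ := QuotientGroup.mk_surjective r
        have := hξv u
        rw [← hq, hYv', hδ', Int.cast_neg, Int.cast_one, neg_one_mul, neg_inj, mul_comm q] at this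
        exact this
      have := sum_eta_shift E q
      simp only [hall, Finset.sum_const, Finset.card_univ, nsmul_eq_mul, mul_one] at this
      have hre := congrArg Complex.re this
      rw [Complex.natCast_re, Complex.neg_re, Complex.one_re] at hre
      have : (0 : ℝ) ≤ Fintype.card ((ZMod p)ˣ ⧸ E) := Nat.cast_nonneg _
      linarith
    · push Not at hY
      have := hout' ξ hR hY 1
      rw [hξv 1] at this
      norm_num at this
  refine ⟨χ, fun u => Y (QuotientGroup.mk u), Finset.univ.image Y, ?_, ?_, ?_, hχR.2, ?_, ?_,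
    fun g => Congr.exists_int_of_rational (isCharacter_irr χ) hrat g, ?_, hχx,
    fun u => Finset.mem_image.2 ⟨_, Finset.mem_univ _, rfl⟩, fun u w => ?_⟩
  · rw [hd1, hd', Nat.cast_sub hp.one_le, Nat.cast_one]
  · exact Finset.disjoint_left.1 hdisj hχR.1
  · exact Finset.disjoint_left.1 hdisj h1R
  · rw [Finset.card_image_of_injective _ hYinj, Finset.card_univ, ← ht, ht2]
  · intro ξ hξ g hg
    obtain ⟨q, -, rfl⟩ := Finset.mem_image.1 hξ
    have e := hrel g hg
    rw [hsumR, oneChar_apply, ha1, hna.2, hδ', ← hYreg q g hg] at e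
    push_cast at e
    linear_combination e
  · intro g hg e
    set K := Characters.Kernel.charKer (isCharacter_irr χ) with hK
    haveI : K.Normal := Characters.Kernel.charKer_normal _
    have hne : K ≠ ⊥ := fun hb => hg (by
      have : g ∈ K := e
      rwa [hb, Subgroup.mem_bot] at this)
    obtain ⟨⟨y, hyK⟩, hy⟩ := exists_prime_orderOf_dvd_card' (G := K) p
      ((dvd_mul_left p 2).trans (dvd_of_normal h K hne))
    rw [Subgroup.orderOf_mk] at hy
    obtain ⟨c, u, hu⟩ := exists_conj_pow h hx hxP (g := y) (hy ▸ dvd_refl _)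
    have hmem : x ^ (u : ZMod p).val ∈ K := hu ▸ (inferInstance : K.Normal).conj_mem y hyK c
    rw [hK, Characters.Kernel.mem_charKer, hχx, hd1] at hmem
    have := congrArg Complex.re hmem
    simp at this
    have : (0 : ℝ) ≤ d := Nat.cast_nonneg _
    linarith
  · rw [hYv', hδ', ← QuotientGroup.mk_mul, eta_mk h hx hxP]
    push_cast
    ring

end Cfsg.Agent.Lib.PrimeSharp.TwoP.Character
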