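import Cfsg.Agent.Lib.PrimeSharp.TwoP.Character

/-!
# Moments: the group order and the values of the character of degree `p - 1`
-/

set_option autoImplicit false
set_option linter.unusedSectionVars false
set_option linter.style.haveILetI false

namespace Cfsg.Agent.Lib.PrimeSharp.TwoP.Moments

open MulAction
open Cfsg.Agent.Lib.FirstPower Average Family Periods
open Cfsg.Agent.Lib.PrimePrincipal.Setup Cfsg.Agent.Lib.PrimeSharp.TwoP.Basic
open Cfsg.Agent.Lib.PrimeSharp.TwoP.Character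
open Cfsg.Agent.Lib.Characters.Basic
open scoped ComplexConjugate

universe u

variable {α : Type u} [Fintype α] [DecidableEq α] {p : ℕ} [Fact p.Prime]
  {G : Subgroup (Equiv.Perm α)} {P : Sylow p G} {x : G}

theorem order_eq_of_dvd (h : Hyp p G P) (hx : orderOf x = p)
    (hxP : Subgroup.zpowers x = (P : Subgroup G)) {g : G} (hg : p ∣ orderOf g) : orderOf g = p := by
  obtain ⟨c, u, hu⟩ := exists_conj_pow h hx hxP hg
  rw [← orderOf_pow_unit hx u, ← hu, ← MulAut.conj_apply, MulEquiv.orderOf_eq]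

/-- The sum of a class function over the elements of order `p`. -/
theorem sum_singular [Fintype G] (h : Hyp p G P) (hx : orderOf x = p)
    (hxP : Subgroup.zpowers x = (P : Subgroup G)) (F : G → ℂ) (hF : Cfsg.IsClassFunction G F) :
    (2 * p : ℂ) * ∑ g ∈ Finset.univ.filter (fun g : G => orderOf g = p), F g =
      (Nat.card G : ℂ) * ∑ u : (ZMod p)ˣ, F (x ^ (u : ZMod p).val) := by
  classical
  have hxp := pow_eq_one_of_order hx
  set S := Finset.univ.filter (fun g : G => orderOf g = p) with hS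
  let Φ : G × (ZMod p)ˣ → G := fun cu => cu.1 * x ^ (cu.2 : ZMod p).val * cu.1⁻¹
  have hmaps : ∀ cu ∈ (Finset.univ : Finset (G × (ZMod p)ˣ)), Φ cu ∈ S := by
    intro cu _
    rw [hS, Finset.mem_filter]
    exact ⟨Finset.mem_univ _, by
      show orderOf (cu.1 * x ^ (cu.2 : ZMod p).val * cu.1⁻¹) = p
      rw [← MulAut.conj_apply, MulEquiv.orderOf_eq, orderOf_pow_unit hx]⟩
  have hfib : ∀ g ∈ S, (Finset.univ.filter fun cu => Φ cu = g).card = 2 * p := by
    intro g hg
    rw [hS, Finset.mem_filter] at hg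
    obtain ⟨c0, u0, hu0⟩ := exists_conj_pow h hx hxP (g := g) (hg.2 ▸ dvd_refl _)
    set N := Subgroup.normalizer ((P : Subgroup G) : Set G) with hN
    have hd : ∀ d : N, ∃ u : (ZMod p)ˣ,
        (d : G)⁻¹ * x ^ (u0 : ZMod p).val * (d : G) = x ^ (u : ZMod p).val := by
      intro d
      refine exists_unit hx hxP ?_ ?_
      · exact (Subgroup.mem_normalizer_iff''.1 d.2 _).1 (pow_mem_P hxP _)
      · intro e
        have e' : (d : G)⁻¹ * x ^ (u0 : ZMod p).val * ((d : G)⁻¹)⁻¹ = 1 := by rwa [inv_inv]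
        exact pow_unit_ne_one hx u0 (conj_eq_one_iff.1 e')
    choose ud hud using hd
    rw [← h.nor, ← hN, Nat.card_eq_fintype_card, ← Finset.card_univ]
    refine (Finset.card_bij (fun (d : N) _ => (c0⁻¹ * (d : G), ud d)) ?_ ?_ ?_).symm
    · intro d _
      rw [Finset.mem_filter]
      refine ⟨Finset.mem_univ _, ?_⟩
      show c0⁻¹ * (d : G) * x ^ (ud d : ZMod p).val * (c0⁻¹ * (d : G))⁻¹ = g
      rw [← hud]
      calc _ = c0⁻¹ * x ^ (u0 : ZMod p).val * c0 := by group
        _ = c0⁻¹ * (c0 * g * c0⁻¹) * c0 := by rw [hu0]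
        _ = g := by group
    · intro d _ d' _ e
      exact Subtype.ext (mul_left_cancel (congrArg Prod.fst e))
    · rintro ⟨c, u⟩ hcu
      rw [Finset.mem_filter] at hcu
      have hcu' : c * x ^ (u : ZMod p).val * c⁻¹ = g := hcu.2
      have hd1 : (c0 * c) * x ^ (u : ZMod p).val * (c0 * c)⁻¹ = x ^ (u0 : ZMod p).val := by
        rw [← hu0, ← hcu']; group
      have hdN : c0 * c ∈ N := by
        rw [hN, Subgroup.mem_normalizer_iff_map_conj_eq]
        have hzp : ∀ v : (ZMod p)ˣ, Subgroup.zpowers (x ^ (v : ZMod p).val) = (P : Subgroup G) :=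
          fun v => Subgroup.eq_of_le_of_card_ge (Subgroup.zpowers_le.2 (pow_mem_P hxP _))
            (by rw [Nat.card_zpowers, orderOf_pow_unit hx]; exact (card_sylow h).le)
        conv_lhs => rw [← hzp u]
        rw [MonoidHom.map_zpowers]
        exact (congrArg Subgroup.zpowers hd1).trans (hzp u0)
      refine ⟨⟨c0 * c, hdN⟩, Finset.mem_univ _, ?_⟩
      refine Prod.ext (by simp) (Units.ext (pow_val_inj hx ?_))
      rw [← hud]
      show (c0 * c)⁻¹ * x ^ (u0 : ZMod p).val * (c0 * c) = x ^ (u : ZMod p).val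
      rw [← hd1]; group
  have hall : ∑ cu : G × (ZMod p)ˣ, F (Φ cu) =
      (Nat.card G : ℂ) * ∑ u : (ZMod p)ˣ, F (x ^ (u : ZMod p).val) := by
    rw [Fintype.sum_prod_type, Finset.sum_congr rfl
      (g := fun _ => ∑ u : (ZMod p)ˣ, F (x ^ (u : ZMod p).val)) (fun c _ =>
        Finset.sum_congr rfl fun u _ => hF _ c), Finset.sum_const, Finset.card_univ, nsmul_eq_mul,
      Nat.card_eq_fintype_card]
  rw [← hall, ← Finset.sum_fiberwise_of_maps_to hmaps (fun cu => F (Φ cu)), Finset.mul_sum]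
  refine Finset.sum_congr rfl fun g hg => ?_
  rw [Finset.sum_congr rfl (g := fun _ => F g) (fun cu hcu => by rw [(Finset.mem_filter.1 hcu).2]),
    Finset.sum_const, hfib g hg, nsmul_eq_mul]
  push_cast
  ring

theorem exponential_sum (hp : 4 < p) :
    ∑ u : (ZMod p)ˣ, (chr p (u : ZMod p) + chr p (-(u : ZMod p))) *
      (chr p (u : ZMod p) + chr p (-(u : ZMod p))) *
      (chr p (2 * (u : ZMod p)) + chr p (-(2 * (u : ZMod p)))) = 2 * (p : ℂ) - 8 := by
  classical
  have hprime : p.Prime := Fact.out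
  have hne : ∀ n : ℕ, 0 < n → n < p → (n : ZMod p) ≠ 0 := fun n h0 h1 e =>
    absurd (Nat.le_of_dvd h0 ((ZMod.natCast_eq_zero_iff _ _).1 e)) (by omega)
  have h2 : (2 : ZMod p) ≠ 0 := by simpa using hne 2 two_pos (by omega)
  have h4 : (4 : ZMod p) ≠ 0 := by simpa using hne 4 (by norm_num) hp
  have e : ∀ u : (ZMod p)ˣ, (chr p (u : ZMod p) + chr p (-(u : ZMod p))) *
      (chr p (u : ZMod p) + chr p (-(u : ZMod p))) *
      (chr p (2 * (u : ZMod p)) + chr p (-(2 * (u : ZMod p)))) =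
      chr p ((4 : ZMod p) * u) + chr p ((-4 : ZMod p) * u) + 2 +
        2 * chr p ((2 : ZMod p) * u) + 2 * chr p ((-2 : ZMod p) * u) := by
    intro u
    set w : ZMod p := (u : ZMod p)
    have a1 : chr p w * chr p w = chr p (2 * w) := by rw [← chr_add]; ring_nf
    have a2 : chr p (-w) * chr p (-w) = chr p (-(2 * w)) := by rw [← chr_add]; ring_nf
    have a3 : chr p w * chr p (-w) = 1 := by rw [← chr_add, add_neg_cancel, chr_zero]
    have a4 : chr p (2 * w) * chr p (-(2 * w)) = 1 := by rw [← chr_add, add_neg_cancel, chr_zero]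
    have a5 : chr p (2 * w) * chr p (2 * w) = chr p (4 * w) := by rw [← chr_add]; ring_nf
    have a6 : chr p (-(2 * w)) * chr p (-(2 * w)) = chr p (-4 * w) := by rw [← chr_add]; ring_nf
    rw [neg_mul (2 : ZMod p)]
    linear_combination (chr p (2 * w) + chr p (-(2 * w))) * a1
      + (chr p (2 * w) + chr p (-(2 * w))) * a2 + 2 * (chr p (2 * w) + chr p (-(2 * w))) * a3
      + 2 * a4 + a5 + a6
  simp only [e, Finset.sum_add_distrib, ← Finset.mul_sum, sum_chr_units, neg_eq_zero, if_neg h2,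
    if_neg h4, Finset.sum_const, Finset.card_univ, ZMod.card_units, nsmul_eq_mul]
  rw [Nat.cast_sub hprime.one_le]
  push_cast
  ring

/-- The group order and the values. -/
theorem card_and_values (h : Hyp p G P) (hx : orderOf x = p)
    (hxP : Subgroup.zpowers x = (P : Subgroup G)) :
    ∃ (χ : Cfsg.IrrCharacter G) (T : Finset (Cfsg.IrrCharacter G)),
      Nat.card G = p * ((p - 1) * (p - 2)) ∧ (χ : G → ℂ) 1 = (p : ℂ) - 1 ∧
      χ ∉ T ∧ oneChar G ∉ T ∧ χ ≠ oneChar G ∧ T.card * 2 = p - 1 ∧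
      (∀ ξ ∈ T, ∀ g : G, ¬ p ∣ orderOf g → (ξ : G → ℂ) g = (χ : G → ℂ) g - 1) ∧
      (∀ u : (ZMod p)ˣ, (χ : G → ℂ) (x ^ (u : ZMod p).val) = -1) ∧
      ∀ g : G, g ≠ 1 → ¬ p ∣ orderOf g → (χ : G → ℂ) g = 0 ∨ (χ : G → ℂ) g = 1 := by
  classical
  haveI := Fintype.ofFinite G
  have hp : p.Prime := Fact.out
  have hp5 : 4 < p := by
    have := h.lt
    have h4 : p ≠ 4 := fun e => absurd hp (e ▸ by decide)
    omega
  obtain ⟨χ, θ, T, hd, hχT, h1T, hχ1, hTc, hreg, hint, hker, hχx, hθT, hθx⟩ := exists_chars h hx hxP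
  choose v hv using hint
  set n : ℤ := (Nat.card G : ℤ) with hn
  set S := Finset.univ.filter (fun g : G => orderOf g = p) with hS
  have hnotS : ∀ g, g ∈ Finset.univ \ S → ¬ p ∣ orderOf g := fun g hg hd' =>
    (Finset.mem_sdiff.1 hg).2 (Finset.mem_filter.2
      ⟨Finset.mem_univ _, order_eq_of_dvd h hx hxP hd'⟩)
  have hSm : ∀ g ∈ S, v g = -1 := by
    intro g hg
    obtain ⟨c, u, hu⟩ := exists_conj_pow h hx hxP (g := g) ((Finset.mem_filter.1 hg).2 ▸ dvd_refl _)
    have e : (χ : G → ℂ) (c * g * c⁻¹) = (χ : G → ℂ) g := isClassFunction_irr χ g c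
    rw [hu, hχx, ← hv] at e
    exact_mod_cast e.symm
  have hSc : (S.card : ℤ) * (2 * p) = ((p : ℤ) - 1) * n := by
    have e := congrArg (fun k : ℕ => (k : ℤ)) (Count.card_order_p P (card_sylow h))
    simp only [h.nor, ← hS, Nat.cast_mul, Nat.cast_sub hp.one_le] at e
    push_cast at e
    exact e
  have hsplit : ∀ f : ℤ → ℤ, ∑ g, f (v g) = ∑ g ∈ Finset.univ \ S, f (v g) + (S.card : ℤ) * f (-1) := by
    intro f
    rw [← Finset.sum_sdiff (Finset.subset_univ S), Finset.sum_congr rfl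
      (g := fun _ => f (-1)) (s₁ := S) (fun g hg => by rw [hSm g hg]), Finset.sum_const, nsmul_eq_mul]
  have hnG : (Nat.card G : ℂ) ≠ 0 := Induced.Basic.natCard_ne_zero
  have e1 : ∑ g, v g = 0 := by
    have e := classInner_irr_of_ne hχ1
    rw [Cfsg.classInner, mul_eq_zero] at e
    have e' := e.resolve_left (inv_ne_zero hnG)
    simp only [oneChar_apply, map_one, mul_one, ← hv] at e'
    exact_mod_cast e'
  have e2 : ∑ g, v g ^ 2 = n := by
    have e := classInner_self_irr χ
    rw [Cfsg.classInner, inv_mul_eq_iff_eq_mul₀ hnG, mul_one] at e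
    simp only [← hv, map_intCast] at e
    rw [hn]
    simp only [pow_two]
    exact_mod_cast e
  obtain ⟨k, hk⟩ := exists_classInner_nat (isCharacter_mul (isCharacter_irr χ) (isCharacter_irr χ))
    (isCharacter_irr χ)
  have e3 : ∑ g, v g ^ 3 = (k : ℤ) * n := by
    rw [Cfsg.classInner, inv_mul_eq_iff_eq_mul₀ hnG] at hk
    simp only [Pi.mul_apply, ← hv, map_intCast] at hk
    rw [hn, Finset.sum_congr rfl (g := fun g => v g * v g * v g) (fun g _ => by ring),
      mul_comm (k : ℤ)]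
    exact_mod_cast hk
  -- the product of two exceptional characters
  have hk1 : 1 ≤ k := by
    set two : (ZMod p)ˣ := Units.mk0 (2 : ZMod p) (by
      intro e
      have : ((2 : ℕ) : ZMod p) = 0 := by exact_mod_cast e
      have := Nat.le_of_dvd two_pos ((ZMod.natCast_eq_zero_iff _ _).1 this)
      omega) with htwo
    obtain ⟨k', hk'⟩ := exists_classInner_nat
      (isCharacter_mul (isCharacter_irr (θ 1)) (isCharacter_irr (θ 1))) (isCharacter_irr (θ two))
    rw [Cfsg.classInner, inv_mul_eq_iff_eq_mul₀ hnG] at hk'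
    set F : G → ℂ := fun g =>
      (θ 1 : G → ℂ) g * (θ 1 : G → ℂ) g * conj ((θ two : G → ℂ) g) with hF
    have hFc : Cfsg.IsClassFunction G F := fun g c => by
      simp only [hF]
      rw [isClassFunction_irr (θ 1) g c, isClassFunction_irr (θ two) g c]
    have hsing : (2 * p : ℂ) * ∑ g ∈ S, F g = (Nat.card G : ℂ) * -(2 * (p : ℂ) - 8) := by
      rw [sum_singular h hx hxP F hFc]
      congr 1
      rw [← exponential_sum hp5, ← Finset.sum_neg_distrib]
      refine Finset.sum_congr rfl fun u _ => ?_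
      simp only [hF, hθx, one_mul, map_neg, map_add, conj_chr, neg_neg]
      rw [htwo, Units.val_mul, Units.val_mk0]
      ring
    have hregF : ∑ g ∈ Finset.univ \ S, F g =
        ((∑ g ∈ Finset.univ \ S, (v g - 1) ^ 3 : ℤ) : ℂ) := by
      push_cast
      refine Finset.sum_congr rfl fun g hg => ?_
      simp only [hF]
      rw [hreg _ (hθT 1) g (hnotS g hg), hreg _ (hθT two) g (hnotS g hg), map_sub, map_one, ← hv,
        map_intCast]
      ring
    have key : (2 * p : ℤ) * n * k' = (2 * p : ℤ) * (∑ g ∈ Finset.univ \ S, (v g - 1) ^ 3) +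
        n * -(2 * (p : ℤ) - 8) := by
      have e : (2 * p : ℂ) * ((Nat.card G : ℂ) * (k' : ℂ)) =
          (2 * p : ℂ) * ((∑ g ∈ Finset.univ \ S, (v g - 1) ^ 3 : ℤ) : ℂ) +
            (Nat.card G : ℂ) * -(2 * (p : ℂ) - 8) := by
        rw [← hk', ← hregF, ← hsing, ← mul_add, Finset.sum_sdiff (Finset.subset_univ S)]
        rfl
      rw [hn]
      rw [mul_assoc]
      exact_mod_cast e
    have e4 := hsplit (fun z => (z - 1) ^ 3)
    rw [Finset.sum_congr rfl (g := fun g => v g ^ 3 - 3 * v g ^ 2 + 3 * v g - 1)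
      (fun g _ => by ring), Finset.sum_sub_distrib, Finset.sum_add_distrib, Finset.sum_sub_distrib,
      ← Finset.mul_sum, ← Finset.mul_sum, e1, e2, e3, Finset.sum_const, Finset.card_univ,
      nsmul_eq_mul, mul_one, ← Nat.card_eq_fintype_card, ← hn] at e4
    have hpos : (0 : ℤ) < 2 * p * n := by
      rw [hn]
      have := Nat.card_pos (α := G)
      have := hp.pos
      positivity
    have : (2 * p : ℤ) * n * k' = (2 * p : ℤ) * n * ((k : ℤ) - 1) := by
      linear_combination key - (2 * (p : ℤ)) * e4 + 8 * hSc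
    have := mul_left_cancel₀ hpos.ne' this
    omega
  -- the inequality
  have hB : ∀ g, 0 ≤ v g ^ 2 - v g := fun g => by
    have := mul_self_nonneg (v g)
    rcases le_or_gt (v g) 0 with e | e <;> nlinarith
  set R1 := (Finset.univ \ S).erase (1 : G) with hR1
  have h1R : (1 : G) ∈ Finset.univ \ S := by simp [hS, hp.ne_one.symm]
  have hv1 : v 1 = (p : ℤ) - 1 := by
    have e := hv 1
    rw [hd] at e
    exact_mod_cast e
  have hbound : ∀ g ∈ R1, v g + 1 ≤ (p : ℤ) - 1 := by
    intro g hg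
    have hle := norm_apply_le (isCharacter_irr χ) g
    rw [← hv g, ← hv 1, hv1, Complex.norm_intCast, Complex.norm_intCast] at hle
    have hle' : |v g| ≤ |(p : ℤ) - 1| := by exact_mod_cast hle
    rw [abs_of_nonneg (by omega : (0 : ℤ) ≤ (p : ℤ) - 1)] at hle'
    have hne : v g ≠ (p : ℤ) - 1 := fun e =>
      hker g (Finset.ne_of_mem_erase hg) (by rw [← hv g, ← hv 1, hv1, e])
    have := le_abs_self (v g)
    omega
  have s2 := hsplit (fun z => z ^ 2 - z)
  have s3 := hsplit (fun z => z ^ 3 - z)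
  rw [Finset.sum_sub_distrib, e1, ← Finset.add_sum_erase _ _ h1R, hv1, ← hR1] at s2 s3
  rw [e2, sub_zero] at s2
  rw [e3, sub_zero] at s3
  set B := ∑ g ∈ R1, (v g ^ 2 - v g) with hBdef
  have hB0 : 0 ≤ B := Finset.sum_nonneg fun g _ => hB g
  have hF : ∑ g ∈ R1, (v g ^ 3 - v g) ≤ ((p : ℤ) - 1) * B := by
    rw [hBdef, Finset.mul_sum]
    refine Finset.sum_le_sum fun g hg => ?_
    rw [show v g ^ 3 - v g = (v g + 1) * (v g ^ 2 - v g) by ring]
    exact mul_le_mul_of_nonneg_right (hbound g hg) (hB g)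
  have hBn : (p : ℤ) * B = n - (p : ℤ) * (((p : ℤ) - 1) * ((p : ℤ) - 2)) := by
    linear_combination -(p : ℤ) * s2 - hSc
  have hkn : n ≤ (k : ℤ) * n := le_mul_of_one_le_left (by rw [hn]; positivity) (by omega)
  have hzero : B = 0 := by
    have hFv : ∑ g ∈ R1, (v g ^ 3 - v g) = (k : ℤ) * n - ((p : ℤ) * ((p : ℤ) - 1) * ((p : ℤ) - 2)) := by
      linear_combination -s3
    nlinarith
  refine ⟨χ, T, ?_, hd, hχT, h1T, hχ1, hTc, hreg, hχx, fun g hg hreg' => ?_⟩
  · rw [hzero, mul_zero] at hBn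
    have : n = ((p * ((p - 1) * (p - 2)) : ℕ) : ℤ) := by
      push_cast [Nat.cast_sub hp.one_le, Nat.cast_sub hp.two_le]
      linarith
    rw [hn] at this
    exact_mod_cast this
  · have hgR : g ∈ R1 := Finset.mem_erase.2 ⟨hg, Finset.mem_sdiff.2 ⟨Finset.mem_univ _, fun hS' =>
      hreg' ((Finset.mem_filter.1 hS').2 ▸ dvd_refl _)⟩⟩
    have := (Finset.sum_eq_zero_iff_of_nonneg fun g _ => hB g).1 hzero g hgR
    have h' : v g * (v g - 1) = 0 := by linear_combination this
    rcases mul_eq_zero.1 h' with e | e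
    · left; rw [← hv, e, Int.cast_zero]
    · right; rw [← hv, show v g = 1 by omega, Int.cast_one]

end Cfsg.Agent.Lib.PrimeSharp.TwoP.Moments
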