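import Cfsg.Agent.Lib.PrimeSharp.TwoP.Moments
import Mathlib.GroupTheory.SpecificGroups.Alternating

/-!
# Degree `2p` forces `p = 5` and the alternating group
-/

set_option autoImplicit false
set_option linter.unusedSectionVars false
set_option linter.style.haveILetI false

namespace Cfsg.Agent.Lib.PrimeSharp.TwoP.Structure

open MulAction
open Cfsg.Agent.Lib.PrimePrincipal.Setup Cfsg.Agent.Lib.PrimeSharp.TwoP.Basic
open Cfsg.Agent.Lib.PrimeSharp.TwoP.Character Cfsg.Agent.Lib.PrimeSharp.TwoP.Moments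
open Cfsg.Agent.Lib.Characters.Basic
open scoped ComplexConjugate

universe u

variable {α : Type u} [Fintype α] [DecidableEq α] {p : ℕ} [Fact p.Prime]
  {G : Subgroup (Equiv.Perm α)} {P : Sylow p G} {x : G}

theorem iso_alternating (h : Hyp p G P) (hx : orderOf x = p)
    (hxP : Subgroup.zpowers x = (P : Subgroup G)) :
    p = 5 ∧ Nonempty (G ≃* alternatingGroup (Fin 5)) := by
  classical
  haveI := Fintype.ofFinite G
  have hp : p.Prime := Fact.out
  have hp4 : 4 < p := by
    have := h.lt
    have h4 : p ≠ 4 := fun e => absurd hp (e ▸ by decide)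
    omega
  obtain ⟨r2, hr2⟩ := hp.odd_of_ne_two (by omega)
  obtain ⟨χ, T, hn, hd, hχT, h1T, hχ1, hTc, hreg, hχx, hval⟩ := card_and_values h hx hxP
  have hexp : ∀ g : G, g ≠ 1 → ¬ p ∣ orderOf g → ∀ r : ℕ, r.Prime → g ^ r ≠ 1 →
      (χ : G → ℂ) (g ^ r) = (χ : G → ℂ) g := by
    intro g hg hgp r hr hgr
    have hgp' : ¬ p ∣ orderOf (g ^ r) := fun hd' => hgp (hd'.trans (orderOf_pow_dvd r))
    have aux : ∀ z : G, z ≠ 1 → ¬ p ∣ orderOf z →
        ∃ a : ℤ, (a = 0 ∨ a = 1) ∧ (a : ℂ) = (χ : G → ℂ) z := by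
      intro z hz hzp
      rcases hval z hz hzp with e | e
      · exact ⟨0, Or.inl rfl, by rw [e, Int.cast_zero]⟩
      · exact ⟨1, Or.inr rfl, by rw [e, Int.cast_one]⟩
    obtain ⟨a, ha, hav⟩ := aux g hg hgp
    obtain ⟨b, hb, hbv⟩ := aux (g ^ r) hgr hgp'
    have hdvd := Congr.congr_pow (isCharacter_irr χ) hr g hav hbv
    have hab : a = b := by
      by_contra hne
      have h1 : |a - b| = 1 := by
        rcases ha with rfl | rfl <;> rcases hb with rfl | rfl <;> simp_all
      have := Int.le_of_dvd (by rw [h1]; norm_num) ((dvd_abs _ _).2 hdvd)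
      rw [h1] at this
      have := hr.two_le
      omega
    rw [← hav, ← hbv, hab]
  have hpowχ : ∀ (d : ℕ) (g : G), g ≠ 1 → ¬ p ∣ orderOf g → g ^ d ≠ 1 →
      (χ : G → ℂ) (g ^ d) = (χ : G → ℂ) g := by
    intro d
    induction d using induction_on_primes with
    | zero => intro g _ _ hd'; exact absurd (pow_zero g) hd'
    | one => intro g _ _ _; rw [pow_one]
    | prime_mul r d hr ih =>
      intro g hg hgp hne
      rw [mul_comm, pow_mul] at hne ⊢
      have hd1 : g ^ d ≠ 1 := fun e => hne (by rw [e, one_pow])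
      rw [hexp (g ^ d) hd1 (fun hd' => hgp (hd'.trans (orderOf_pow_dvd d))) r hr hne,
        ih g hg hgp hd1]
  have hinv0 : ∀ s : G, orderOf s = 2 → (χ : G → ℂ) s = 0 := by
    intro s hs
    have hs1 : s ≠ 1 := fun e => by rw [e, orderOf_one] at hs; omega
    have hsp : ¬ p ∣ orderOf s := by
      rw [hs]; intro hd'; have := Nat.le_of_dvd two_pos hd'; omega
    refine (hval s hs1 hsp).resolve_right fun e => ?_
    have h1 : (χ : G → ℂ) (s ^ 2) = (((p : ℤ) - 1 : ℤ) : ℂ) := by
      rw [← hs, pow_orderOf_eq_one, hd]; push_cast; ring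
    have h2 := Congr.congr_pow (isCharacter_irr χ) Nat.prime_two s (a := 1)
      (by rw [e, Int.cast_one]) h1.symm
    rw [hr2] at h2
    push_cast at h2
    omega
  have hregcomm : ∀ t y : G, orderOf t = 2 → Commute y t → ¬ p ∣ orderOf y := by
    intro t y ht hyt hyp
    obtain ⟨c, u, hu⟩ := exists_conj_pow h hx hxP hyp
    have hc : Commute (c * t * c⁻¹) (x ^ (u : ZMod p).val) := by
      rw [← hu]; exact (Commute.conj_iff c).2 hyt.symm
    have hcx : Commute (c * t * c⁻¹) x := by
      have hxp := Cfsg.Agent.Lib.FirstPower.Family.pow_eq_one_of_order hx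
      have := hc.pow_right ((u⁻¹ : (ZMod p)ˣ) : ZMod p).val
      rwa [← Cfsg.Agent.Lib.FirstPower.Average.pow_val_mul hxp, ← Units.val_mul, mul_inv_cancel,
        Units.val_one, Cfsg.Agent.Lib.FirstPower.Average.pow_val_one hxp] at this
    have hmem : c * t * c⁻¹ ∈ (P : Subgroup G) :=
      centralizer_singleton h hxP ▸ Subgroup.mem_centralizer_singleton_iff.2 hcx.eq
    have h2 : orderOf (c * t * c⁻¹) ∣ p := card_sylow h ▸ Subgroup.orderOf_dvd_natCard _ hmem
    rw [← MulAut.conj_apply, MulEquiv.orderOf_eq, ht] at h2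
    have := (Nat.prime_dvd_prime_iff_eq Nat.prime_two hp).1 h2
    omega
  -- even order gives an involution power
  have heven : ∀ y : G, ¬ p ∣ orderOf y → 2 ∣ orderOf y → (χ : G → ℂ) y = 0 := by
    intro y hyp h2
    have hy1 : y ≠ 1 := fun e => by rw [e, orderOf_one] at h2; omega
    have hs : orderOf (y ^ (orderOf y / 2)) = 2 :=
      orderOf_pow_orderOf_div (orderOf_pos y).ne' h2
    have hs1 : y ^ (orderOf y / 2) ≠ 1 := fun e => by rw [e, orderOf_one] at hs; omega
    rw [← hpowχ _ y hy1 hyp hs1]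
    exact hinv0 _ hs
  have hχC : ∀ t y : G, orderOf t = 2 → Commute y t → y ≠ 1 → (χ : G → ℂ) y = 0 := by
    intro t y ht hyt hy1
    have hyp := hregcomm t y ht hyt
    by_cases h2 : 2 ∣ orderOf y
    · exact heven y hyp h2
    have hco : (orderOf y).Coprime (orderOf t) := by
      rw [ht, Nat.coprime_comm, Nat.prime_two.coprime_iff_not_dvd]; exact h2
    have ho : orderOf (y * t) = orderOf y * 2 := by
      rw [hyt.orderOf_mul_eq_mul_orderOf_of_coprime hco, ht]
    have hyt1 : y * t ≠ 1 := fun e => by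
      rw [e, orderOf_one] at ho
      have := orderOf_pos y
      omega
    have hytp : ¬ p ∣ orderOf (y * t) := fun hd' => by
      rw [ho] at hd'
      rcases hp.dvd_mul.1 hd' with e | e
      · exact hyp e
      · have := Nat.le_of_dvd two_pos e; omega
    have hy2 : y ^ 2 ≠ 1 := fun e => by
      have h3 := orderOf_dvd_of_pow_eq_one e
      rcases (Nat.dvd_prime Nat.prime_two).1 h3 with e' | e'
      · exact hy1 (orderOf_eq_one_iff.1 e')
      · exact h2 (e'.symm ▸ dvd_refl _)
    have e1 : (y * t) ^ 2 = y ^ 2 := by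
      rw [hyt.mul_pow, ← ht, pow_orderOf_eq_one, mul_one]
    rw [← hpowχ 2 y hy1 hyp hy2, ← e1, hpowχ 2 (y * t) hyt1 hytp (e1 ▸ hy2)]
    exact heven _ hytp (by rw [ho]; exact dvd_mul_left 2 _)
  -- an involution and its centraliser
  obtain ⟨t, ht⟩ := exists_prime_orderOf_dvd_card' (G := G) 2 (by
    rw [hn]
    exact dvd_mul_of_dvd_right (dvd_mul_of_dvd_left (by omega) _) _)
  have ht1 : t ≠ 1 := fun e => by rw [e, orderOf_one] at ht; omega
  have htp : ¬ p ∣ orderOf t := hregcomm t t ht (Commute.refl t)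
  set q := p - 1 with hq
  have hCcard : ∀ s : G, orderOf s = 2 → Nat.card (Subgroup.centralizer ({s} : Set G)) = q := by
    intro s hs
    set C := Subgroup.centralizer ({s} : Set G) with hC
    haveI := Fintype.ofFinite C
    have hsp : ¬ p ∣ orderOf s := hregcomm s s hs (Commute.refl s)
    obtain ⟨k, hk⟩ := exists_classInner_nat (isCharacter_comp C.subtype (isCharacter_irr χ))
      (isCharacter_one (G := C))
    have hcard0 : (Nat.card C : ℂ) ≠ 0 := Nat.cast_ne_zero.2 Nat.card_pos.ne'
    rw [Cfsg.classInner, inv_mul_eq_iff_eq_mul₀ hcard0] at hk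
    simp only [Pi.one_apply, map_one, mul_one, Function.comp_apply, Subgroup.coe_subtype] at hk
    rw [Finset.sum_eq_single (1 : C) (fun y _ hy => hχC s y hs
      (Subgroup.mem_centralizer_singleton_iff.1 y.2) (fun e => hy (Subtype.ext e)))
      (fun e => absurd (Finset.mem_univ _) e)] at hk
    rw [OneMemClass.coe_one, hd] at hk
    have hk' : Nat.card C * k = q := by
      have e : ((p - 1 : ℕ) : ℂ) = ((Nat.card C * k : ℕ) : ℂ) := by
        rw [Nat.cast_sub hp.one_le]; push_cast; exact hk
      exact_mod_cast e.symm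
    haveI := Fintype.ofFinite (Cfsg.IrrCharacter G)
    have horth := Characters.Complete.sum_irr_mul_conj s s
    rw [if_pos (IsConj.refl s)] at horth
    simp only [Complex.mul_conj'] at horth
    have horth' : ∑ ξ : Cfsg.IrrCharacter G, ‖(ξ : G → ℂ) s‖ ^ 2 = (Nat.card C : ℝ) := by
      exact_mod_cast horth
    have hle : (1 : ℝ) + (T.card : ℝ) ≤ (Nat.card C : ℝ) := by
      rw [← horth']
      refine le_trans (le_of_eq ?_) (Finset.sum_le_sum_of_subset_of_nonneg
        (Finset.subset_univ (insert (oneChar G) T)) fun ξ _ _ => sq_nonneg _)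
      rw [Finset.sum_insert h1T, oneChar_apply, norm_one, one_pow,
        Finset.sum_congr rfl (g := fun _ => (1 : ℝ)) (fun ξ hξ => by
          rw [hreg ξ hξ s hsp, hinv0 s hs]; simp)]
      simp
    have hle' : 1 + T.card ≤ Nat.card C := by exact_mod_cast hle
    have hk1 : k = 1 := by
      rcases k with _ | _ | k
      · rw [mul_zero] at hk'; omega
      · rfl
      · have : Nat.card C * 2 ≤ Nat.card C * (k + 1 + 1) := Nat.mul_le_mul_left _ (by omega)
        omega
    rw [hk1, mul_one] at hk'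
    exact hk'
  -- all regular non-identity elements with value `0` are involutions
  set Z := Finset.univ.filter (fun g : G => g ≠ 1 ∧ ¬ p ∣ orderOf g ∧ (χ : G → ℂ) g = 0) with hZ
  have hZc : Z.card = p * (p - 2) := by
    set S := Finset.univ.filter (fun g : G => p ∣ orderOf g) with hS
    set V1 := Finset.univ.filter (fun g : G => g ≠ 1 ∧ ¬ p ∣ orderOf g ∧ (χ : G → ℂ) g = 1) with hV1
    have hSeq : S = Finset.univ.filter (fun g : G => orderOf g = p) := by
      ext g
      simp only [hS, Finset.mem_filter, Finset.mem_univ, true_and]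
      exact ⟨order_eq_of_dvd h hx hxP, fun e => e ▸ dvd_refl _⟩
    have hSc := Count.card_order_p P (card_sylow h)
    rw [h.nor, ← hSeq, hn] at hSc
    have hpt : ∀ g : G, (χ : G → ℂ) g = (if g = 1 then (p : ℂ) - 1 else 0) -
        (if p ∣ orderOf g then 1 else 0) +
        (if g ≠ 1 ∧ ¬ p ∣ orderOf g ∧ (χ : G → ℂ) g = 1 then 1 else 0) := by
      intro g
      by_cases hg1 : g = 1
      · subst hg1
        simp [hd, hp.ne_one]
      by_cases hgp : p ∣ orderOf g
      · obtain ⟨c, u, hu⟩ := exists_conj_pow h hx hxP hgp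
        have e : (χ : G → ℂ) g = -1 := by
          rw [← isClassFunction_irr χ g c, hu, hχx]
        simp [hg1, hgp, e]
      · rcases hval g hg1 hgp with e | e <;> simp [hg1, hgp, e]
    have hsum : ∑ g, (χ : G → ℂ) g = 0 := by
      have e := classInner_irr_of_ne hχ1
      rw [Cfsg.classInner, mul_eq_zero] at e
      have e' := e.resolve_left (inv_ne_zero Induced.Basic.natCard_ne_zero)
      simpa [oneChar_apply] using e'
    rw [Finset.sum_congr rfl (fun g _ => hpt g), Finset.sum_add_distrib, Finset.sum_sub_distrib,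
      Finset.sum_ite_eq', if_pos (Finset.mem_univ _), Finset.sum_boole, Finset.sum_boole,
      ← hS, ← hV1] at hsum
    have hV1c : V1.card + q = S.card := by
      have e : ((V1.card + q : ℕ) : ℂ) = ((S.card : ℕ) : ℂ) := by
        rw [hq, Nat.cast_add, Nat.cast_sub hp.one_le]; push_cast; linear_combination hsum
      exact_mod_cast e
    have htot : 1 + S.card + V1.card + Z.card = Nat.card G := by
      have e : ∀ g : G, (if g = 1 then 1 else 0) + (if p ∣ orderOf g then 1 else 0) +
          (if g ≠ 1 ∧ ¬ p ∣ orderOf g ∧ (χ : G → ℂ) g = 1 then 1 else 0) +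
          (if g ≠ 1 ∧ ¬ p ∣ orderOf g ∧ (χ : G → ℂ) g = 0 then 1 else 0) = (1 : ℕ) := by
        intro g
        by_cases hg1 : g = 1
        · subst hg1; simp [hp.ne_one]
        by_cases hgp : p ∣ orderOf g
        · simp [hg1, hgp]
        · rcases hval g hg1 hgp with e | e <;> simp [hg1, hgp, e]
      have e' := Finset.sum_congr rfl (fun g (_ : g ∈ (Finset.univ : Finset G)) => e g)
      rw [Finset.sum_add_distrib, Finset.sum_add_distrib, Finset.sum_add_distrib, Finset.sum_ite_eq',
        if_pos (Finset.mem_univ _), Finset.sum_const, Finset.card_univ, smul_eq_mul, mul_one,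
        ← Nat.card_eq_fintype_card] at e'
      simp only [Finset.sum_boole, Nat.cast_id, ← hS, ← hV1, ← hZ] at e'
      exact e'
    rw [hn, hq] at htot
    rw [hq] at hV1c
    rw [hq] at hSc
    obtain ⟨w, hw⟩ : ∃ w, p = w + 2 := ⟨p - 2, by omega⟩
    subst hw
    simp only [show w + 2 - 1 = w + 1 by omega, show w + 2 - 2 = w by omega] at htot hV1c hSc ⊢
    have h2S : 2 * S.card = (w + 1) * ((w + 1) * w) :=
      Nat.eq_of_mul_eq_mul_right (show 0 < w + 2 by omega)
        (Eq.trans (by ring) (hSc.trans (by ring)))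
    nlinarith
  have hclass : ∀ g : G, g ≠ 1 → ¬ p ∣ orderOf g → (χ : G → ℂ) g = 0 → IsConj t g := by
    intro g hg1 hgp hg0
    set K := Finset.univ.filter (fun z : G => IsConj t z) with hK
    have hsub : K ⊆ Z := by
      intro z hz
      rw [hK, Finset.mem_filter] at hz
      obtain ⟨c, rfl⟩ := isConj_iff.1 hz.2
      have ho : orderOf (c * t * c⁻¹) = 2 := by rw [← MulAut.conj_apply, MulEquiv.orderOf_eq, ht]
      rw [hZ, Finset.mem_filter]
      exact ⟨Finset.mem_univ _, fun e => by rw [e, orderOf_one] at ho; omega,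
        hregcomm _ _ ho (Commute.refl _), hinv0 _ ho⟩
    have hKc := Characters.Complete.card_conjugates_mul_centralizer t
    rw [hCcard t ht, hn, Nat.card_eq_fintype_card, Fintype.card_subtype, ← hK] at hKc
    have hKc' : K.card = p * (p - 2) :=
      Nat.eq_of_mul_eq_mul_right (show 0 < q by omega) (by rw [hKc, hq]; ring)
    have hgZ : g ∈ Z := Finset.mem_filter.2 ⟨Finset.mem_univ _, hg1, hgp, hg0⟩
    rw [← Finset.eq_of_subset_of_card_le hsub (by rw [hKc', hZc]), hK, Finset.mem_filter] at hgZ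
    exact hgZ.2
  have hinvZ : ∀ g : G, g ≠ 1 → ¬ p ∣ orderOf g → (χ : G → ℂ) g = 0 → orderOf g = 2 := by
    intro g hg1 hgp hg0
    obtain ⟨c, rfl⟩ := isConj_iff.1 (hclass g hg1 hgp hg0)
    rw [← MulAut.conj_apply, MulEquiv.orderOf_eq, ht]
  have hCinv : ∀ s y : G, orderOf s = 2 → Commute y s → y ≠ 1 → orderOf y = 2 := fun s y hs hys hy =>
    hinvZ y hy (hregcomm s y hs hys) (hχC s y hs hys hy)
  set C := Subgroup.centralizer ({t} : Set G) with hC
  have hCsq : ∀ y ∈ C, y * y = 1 := by
    intro y hy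
    by_cases hy1 : y = 1
    · rw [hy1, mul_one]
    rw [← pow_two, ← hCinv t y ht (Subgroup.mem_centralizer_singleton_iff.1 hy) hy1,
      pow_orderOf_eq_one]
  have hCcomm : ∀ y ∈ C, ∀ z ∈ C, y * z = z * y := by
    intro y hy z hz
    have h1 : y⁻¹ = y := inv_eq_of_mul_eq_one_left (hCsq y hy)
    have h2 : z⁻¹ = z := inv_eq_of_mul_eq_one_left (hCsq z hz)
    have h3 : (y * z)⁻¹ = y * z := inv_eq_of_mul_eq_one_left (hCsq _ (mul_mem hy hz))
    rw [mul_inv_rev, h1, h2] at h3
    exact h3.symm
  have hCeq : ∀ s ∈ C, s ≠ 1 → Subgroup.centralizer ({s} : Set G) = C := by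
    intro s hs hs1
    have hs2 : orderOf s = 2 := hCinv t s ht (Subgroup.mem_centralizer_singleton_iff.1 hs) hs1
    refine (Subgroup.eq_of_le_of_card_ge (fun y hy =>
      Subgroup.mem_centralizer_singleton_iff.2 (hCcomm y hy s hs)) ?_).symm
    rw [hCcard s hs2, hCcard t ht]
  obtain ⟨b, hb⟩ : ∃ b, Nat.card C = 2 ^ b := by
    refine IsPGroup.iff_card.1 fun y => ⟨1, Subtype.ext ?_⟩
    simpa [pow_two] using hCsq y y.2
  rw [hC, hCcard t ht] at hb
  -- the normaliser of `C`
  set N := Subgroup.normalizer (C : Set G) with hN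
  have hCN : C ≤ N := Subgroup.le_normalizer
  haveI := Fintype.ofFinite N
  haveI := Fintype.ofFinite C
  have hCclass : ∀ s ∈ C, s ≠ 1 → IsConj t s := by
    intro s hs hs1
    have hs2 : orderOf s = 2 := hCinv t s ht (Subgroup.mem_centralizer_singleton_iff.1 hs) hs1
    have hsp : ¬ p ∣ orderOf s := hregcomm s s hs2 (Commute.refl s)
    exact hclass s hs1 hsp (hinv0 s hs2)
  have hconjC : ∀ g s : G, s ∈ C → s ≠ 1 → g * s * g⁻¹ ∈ C → g ∈ N := by
    intro g s hs hs1 hgs
    have hgs1 : g * s * g⁻¹ ≠ 1 := fun e => hs1 (conj_eq_one_iff.1 e)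
    rw [hN, Subgroup.mem_normalizer_iff_map_conj_eq]
    refine Subgroup.eq_of_le_of_card_ge ?_ (by rw [Subgroup.card_map_of_injective (MulEquiv.injective _)])
    rintro _ ⟨y, hy, rfl⟩
    show g * y * g⁻¹ ∈ C
    rw [← hCeq _ hgs hgs1, Subgroup.mem_centralizer_singleton_iff]
    exact ((Commute.conj_iff g).2 (hCcomm y hy s hs)).eq
  have htC : t ∈ C := Subgroup.mem_centralizer_singleton_iff.2 rfl
  have hNcard : Nat.card N = (q - 1) * q := by
    set C1 := Finset.univ.filter (fun s : G => s ∈ C ∧ s ≠ 1) with hC1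
    have hC1c : C1.card = q - 1 := by
      have e : C1 = (Finset.univ.filter (fun s : G => s ∈ C)).erase 1 := by
        ext s; simp [hC1, and_comm]
      rw [e, Finset.card_erase_of_mem (by simp [one_mem]), ← Fintype.card_subtype,
        ← Nat.card_eq_fintype_card]
      exact congrArg (· - 1) (hCcard t ht)
    have hmaps : ∀ n ∈ (Finset.univ : Finset N), (n : G) * t * (n : G)⁻¹ ∈ C1 := by
      intro n _
      rw [hC1, Finset.mem_filter]
      exact ⟨Finset.mem_univ _, (Subgroup.mem_normalizer_iff.1 n.2 t).1 htC,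
        fun e => ht1 (conj_eq_one_iff.1 e)⟩
    rw [Nat.card_eq_fintype_card, ← Finset.card_univ, Finset.card_eq_sum_card_fiberwise hmaps,
      Finset.sum_congr rfl (g := fun _ => q) ?_, Finset.sum_const, hC1c, smul_eq_mul]
    intro s hs
    rw [hC1, Finset.mem_filter] at hs
    obtain ⟨c, hc⟩ := isConj_iff.1 (hCclass s hs.2.1 hs.2.2)
    have hcN : c ∈ N := hconjC c t htC ht1 (hc.symm ▸ hs.2.1)
    rw [← hCcard t ht, ← hC, Nat.card_eq_fintype_card, ← Finset.card_univ]
    refine (Finset.card_bij (fun (y : C) _ => (⟨c * (y : G), mul_mem hcN (hCN y.2)⟩ : N)) ?_ ?_ ?_).symm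
    · intro y _
      rw [Finset.mem_filter]
      refine ⟨Finset.mem_univ _, ?_⟩
      show c * (y : G) * t * (c * (y : G))⁻¹ = s
      rw [← hc, mul_assoc c, hCcomm y y.2 t htC]
      group
    · intro y _ y' _ e
      exact Subtype.ext (mul_left_cancel (congrArg Subtype.val e))
    · intro n hn'
      rw [Finset.mem_filter] at hn'
      refine ⟨⟨c⁻¹ * n, Subgroup.mem_centralizer_singleton_iff.2 ?_⟩, Finset.mem_univ _,
        Subtype.ext (mul_inv_cancel_left c (n : G))⟩
      calc c⁻¹ * (n : G) * t = c⁻¹ * ((n : G) * t * (n : G)⁻¹) * n := by group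
        _ = c⁻¹ * (c * t * c⁻¹) * n := by rw [hn'.2, hc]
        _ = t * (c⁻¹ * n) := by group
  have hidx : N.index = p := by
    have e := N.index_mul_card
    rw [hNcard, hn] at e
    refine Nat.eq_of_mul_eq_mul_right (show 0 < (q - 1) * q from ?_) (e.trans ?_)
    · exact Nat.mul_pos (by omega) (by omega)
    · rw [hq, show p - 1 - 1 = p - 2 by omega]; ring
  have hinvN : ∀ s ∈ N, orderOf s = 2 → s ∈ C := by
    intro s hs hs2
    haveI : (C.subgroupOf N).Normal := by rw [hN]; exact Subgroup.normal_in_normalizer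
    have hm : ((QuotientGroup.mk (⟨s, hs⟩ : N)) : N ⧸ C.subgroupOf N) ^ 2 = 1 := by
      rw [← QuotientGroup.mk_pow, show (⟨s, hs⟩ : N) ^ 2 = 1 from Subtype.ext (by
        simp only [SubmonoidClass.mk_pow, OneMemClass.coe_one]
        rw [← hs2, pow_orderOf_eq_one]), QuotientGroup.mk_one]
    have hcard : Nat.card (N ⧸ C.subgroupOf N) = q - 1 := by
      have e := (C.subgroupOf N).index_mul_card
      rw [Subgroup.index_eq_card, Nat.card_congr (Subgroup.subgroupOfEquivOfLe hCN).toEquiv, hNcard,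
        hC, hCcard t ht] at e
      exact Nat.eq_of_mul_eq_mul_right (by omega) e
    have h1 : orderOf ((QuotientGroup.mk (⟨s, hs⟩ : N)) : N ⧸ C.subgroupOf N) ∣ Nat.gcd 2 (q - 1) :=
      Nat.dvd_gcd (orderOf_dvd_of_pow_eq_one hm) (hcard ▸ orderOf_dvd_natCard _)
    rw [(Nat.prime_two.coprime_iff_not_dvd.2 (by omega)).gcd_eq_one, Nat.dvd_one,
      orderOf_eq_one_iff, QuotientGroup.eq_one_iff, Subgroup.mem_subgroupOf] at h1
    exact h1
  -- a point stabiliser and its Sylow two-subgroup
  haveI := h.prim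
  obtain ⟨a⟩ : Nonempty α := Fintype.card_pos_iff.1 (by rw [h.card]; omega)
  haveI : Nontrivial α := Fintype.one_lt_card_iff_nontrivial.1 (by rw [h.card]; omega)
  set H := stabilizer G a with hH
  obtain ⟨b', rfl⟩ : ∃ b', b = b' + 1 :=
    ⟨b - 1, by rcases b with _ | b <;> simp_all⟩
  set h' := 2 ^ b' with hh'
  have hqh : q = 2 * h' := by rw [hb, hh', pow_succ]; ring
  have hHc : Nat.card H = h' * (q - 1) := by
    have e := H.index_mul_card
    rw [hH, index_stabilizer_of_transitive, Nat.card_eq_fintype_card (α := α), h.card, hn] at e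
    refine Nat.eq_of_mul_eq_mul_left (show 0 < 2 * p by omega) (e.trans ?_)
    rw [show p - 2 = q - 1 by omega, hqh]; ring
  obtain ⟨D, hD⟩ := Sylow.exists_subgroup_card_pow_prime 2 (G := H) (n := b')
    (by rw [hHc]; exact dvd_mul_right _ _)
  set D' := D.map H.subtype with hD'
  have hD'c : Nat.card D' = h' := by
    rw [hD', Subgroup.card_map_of_injective H.subtype_injective, hD]
  have hD'H : D' ≤ H := Subgroup.map_subtype_le D
  have hDinv : ∀ y ∈ D', y ≠ 1 → orderOf y = 2 := by
    intro y hy hy1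
    have h1 : orderOf y ∣ 2 ^ b' := hh' ▸ hD'c ▸ Subgroup.orderOf_dvd_natCard _ hy
    obtain ⟨i, -, hi⟩ := (Nat.dvd_prime_pow Nat.prime_two).1 h1
    have h2 : 2 ∣ orderOf y := by
      rcases i with _ | i
      · exact absurd (orderOf_eq_one_iff.1 (by simpa using hi)) hy1
      · rw [hi]; exact dvd_pow_self 2 (by omega)
    have hyp : ¬ p ∣ orderOf y := fun hd' => by
      rw [hi] at hd'
      have := Nat.le_of_dvd two_pos (hp.dvd_of_dvd_pow hd')
      omega
    exact hinvZ y hy1 hyp (heven y hyp h2)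
  obtain ⟨d, hdD, hd1⟩ : ∃ d ∈ D', d ≠ 1 := by
    by_contra! hall
    rw [(Subgroup.eq_bot_iff_forall _).2 hall, Subgroup.card_bot] at hD'c
    omega
  obtain ⟨g, hg⟩ : ∃ g : G, g * t * g⁻¹ = d := by
    have hd2 := hDinv d hdD hd1
    exact isConj_iff.1 (hclass d hd1 (hregcomm d d hd2 (Commute.refl d)) (hinv0 d hd2))
  set o : G ⧸ N := (g : G ⧸ N) with ho
  have hfixo : ∀ y ∈ D', y • o = o := by
    intro y hy
    have hyd : Commute y d := by
      by_cases hy1 : y = 1
      · rw [hy1]; exact Commute.one_left d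
      by_cases hyd1 : y * d = 1
      · rw [eq_inv_of_mul_eq_one_left hyd1]; exact (Commute.refl d).inv_left
      have e1 : y⁻¹ = y := inv_eq_of_mul_eq_one_left (by
        rw [← pow_two, ← hDinv y hy hy1, pow_orderOf_eq_one])
      have e2 : d⁻¹ = d := inv_eq_of_mul_eq_one_left (by
        rw [← pow_two, ← hDinv d hdD hd1, pow_orderOf_eq_one])
      have e3 : (y * d)⁻¹ = y * d := inv_eq_of_mul_eq_one_left (by
        rw [← pow_two, ← hDinv _ (mul_mem hy hdD) hyd1, pow_orderOf_eq_one])
      rw [mul_inv_rev, e1, e2] at e3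
      exact e3.symm
    have hmem : g⁻¹ * y * g ∈ C := by
      rw [hC, Subgroup.mem_centralizer_singleton_iff]
      have := hyd.eq
      rw [← hg] at this
      calc g⁻¹ * y * g * t = g⁻¹ * (y * (g * t * g⁻¹)) * g := by group
        _ = g⁻¹ * (g * t * g⁻¹ * y) * g := by rw [this]
        _ = t * (g⁻¹ * y * g) := by group
    rw [ho, MulAction.Quotient.smul_coe, QuotientGroup.eq]
    have : ((y • g)⁻¹ * g) = (g⁻¹ * y * g)⁻¹ := by rw [smul_eq_mul]; group
    rw [this]
    exact inv_mem (hCN hmem)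
  have honly : ∀ y ∈ D', y ≠ 1 → ∀ o' : G ⧸ N, y • o' = o' → o' = o := by
    intro y hy hy1 o' ho'
    induction o' using QuotientGroup.induction_on with
    | _ k =>
      have hconjN : ∀ k : G, y • (k : G ⧸ N) = (k : G ⧸ N) → k⁻¹ * y * k ∈ C := by
        intro k hk
        rw [MulAction.Quotient.smul_coe, QuotientGroup.eq] at hk
        have h1 : k⁻¹ * y * k ∈ N := by
          have := inv_mem hk
          rwa [smul_eq_mul, mul_inv_rev, inv_inv, ← mul_assoc] at this
        refine hinvN _ h1 ?_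
        rw [show k⁻¹ * y * k = MulAut.conj k⁻¹ y by simp, MulEquiv.orderOf_eq, hDinv y hy hy1]
      have h1 := hconjN k ho'
      have h2 := hconjN g (hfixo y hy)
      rw [ho, QuotientGroup.eq]
      refine inv_mem_iff.1 ?_
      rw [mul_inv_rev, inv_inv]
      refine hconjC (g⁻¹ * k) (k⁻¹ * y * k) h1 ?_ ?_
      · intro e
        have e' : k⁻¹ * y * k⁻¹⁻¹ = 1 := by rwa [inv_inv]
        exact hy1 (conj_eq_one_iff.1 e')
      · rw [show g⁻¹ * k * (k⁻¹ * y * k) * (g⁻¹ * k)⁻¹ = g⁻¹ * y * g by group]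
        exact h2
  set X := orbit H o with hX
  let X' : SubMulAction D' (G ⧸ N) :=
    { carrier := {o' | o' ∈ X ∧ o' ≠ o}
      smul_mem' := fun y o' ho' => ⟨by
          obtain ⟨k, hk⟩ := ho'.1
          refine ⟨⟨(y : G), hD'H y.2⟩ * k, ?_⟩
          change ((y : G) * (k : G)) • o = (y : G) • o'
          rw [mul_smul, show (k : G) • o = o' from hk],
        fun e => ho'.2 (smul_left_cancel (y : G) (e.trans (hfixo y y.2).symm))⟩ }
  have hfree : ∀ z : X', stabilizer D' z = ⊥ := by
    intro z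
    rw [Subgroup.eq_bot_iff_forall]
    intro y hy
    by_contra hy1
    exact z.2.2 (honly y y.2 (fun e => hy1 (Subtype.ext e)) z (congrArg Subtype.val hy))
  have hdvd : h' ∣ Nat.card X' := by
    rw [Nat.card_congr (MulAction.selfEquivOrbitsQuotientProd (fun z => hfree z)), Nat.card_prod,
      hD'c]
    exact dvd_mul_left _ _
  have hXc : Nat.card X' + 1 = Nat.card X := by
    rw [Nat.card_coe_set_eq X]
    show Nat.card {o' | o' ∈ X ∧ o' ≠ o} + 1 = _
    rw [Nat.card_coe_set_eq,
      show {o' | o' ∈ X ∧ o' ≠ o} = X \ {o} from rfl,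
      Set.ncard_sdiff_singleton_add_one (mem_orbit_self o) (Set.toFinite _)]
  have hXle : Nat.card X ≤ p := by
    rw [← hidx, Subgroup.index_eq_card]
    exact Finite.card_subtype_le _
  have hXdvd : Nat.card X ∣ Nat.card H := by
    rw [← Nat.card_congr (orbitEquivQuotientStabilizer H o).symm]
    exact Subgroup.card_quotient_dvd_card _
  have hXne : Nat.card X' ≠ 0 := by
    intro h0
    have hall : ∀ k ∈ H, k • o = o := by
      intro k hk
      by_contra hne
      have : Nonempty X' := ⟨⟨k • o, ⟨⟨k, hk⟩, rfl⟩, hne⟩⟩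
      exact Nat.card_pos.ne' h0
    have hle : H ≤ stabilizer G o := fun k hk => hall k hk
    have hsc : Nat.card (stabilizer G o) = Nat.card N := by
      have e := (stabilizer G o).index_mul_card
      rw [index_stabilizer_of_transitive, ← Subgroup.index_eq_card, ← N.index_mul_card] at e
      exact Nat.eq_of_mul_eq_mul_left (by rw [hidx]; omega) e
    rcases (IsPreprimitive.isCoatom_stabilizer_of_isPreprimitive (G := G) a).le_iff.1 hle with e | e
    · rw [e, Subgroup.card_top, hNcard, hn, show p - 2 = q - 1 by omega] at hsc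
      have hpos : 0 < (q - 1) * q := Nat.mul_pos (by omega) (by omega)
      rw [mul_comm q (q - 1)] at hsc
      have : p = 1 := Nat.eq_of_mul_eq_mul_right hpos (by rw [one_mul]; exact hsc)
      omega
    · rw [← hH] at e
      rw [e, hHc, hNcard, hqh, mul_comm h'] at hsc
      have hpos : 0 < 2 * h' - 1 := by omega
      have := Nat.eq_of_mul_eq_mul_left hpos hsc
      omega
  have hh2 : h' = 2 := by
    obtain ⟨c, hc⟩ := hdvd
    have hc1 : 1 ≤ c := by
      rcases c with _ | c
      · exact absurd (hc.trans (mul_zero _)) hXne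
      · omega
    have hne : Nat.card X ≠ p := by
      intro e
      rw [e, hHc] at hXdvd
      rcases hp.dvd_mul.1 hXdvd with e' | e'
      · have := Nat.le_of_dvd (by omega) e'; omega
      · have := Nat.le_of_dvd (by omega) e'; omega
    have hc2 : c = 1 := by
      by_contra hcne
      have : h' * 2 ≤ h' * c := Nat.mul_le_mul_left _ (by omega)
      omega
    rw [hc2, mul_one] at hc
    rw [← hXc, hc, hHc] at hXdvd
    have hdv : h' + 1 ∣ q - 1 :=
      (Nat.coprime_add_self_left.2 (Nat.coprime_one_left h') |> fun e =>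
        (show (h' + 1).Coprime h' by rwa [add_comm] at e)).dvd_of_dvd_mul_left hXdvd
    obtain ⟨j, hj⟩ := hdv
    rcases j with _ | _ | j
    · omega
    · omega
    · have : (h' + 1) * 2 ≤ (h' + 1) * (j + 1 + 1) := Nat.mul_le_mul_left _ (by omega)
      omega
  have hp5 : p = 5 := by omega
  refine ⟨hp5, ?_⟩
  subst hp5
  -- the action on the five cosets
  let e5 : (G ⧸ N) ≃ Fin 5 := Finite.equivFinOfCardEq (by rw [← Subgroup.index_eq_card, hidx])
  let φ : G →* Equiv.Perm (Fin 5) :=
    e5.permCongrHom.toMonoidHom.comp (MulAction.toPermHom G (G ⧸ N))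
  have hinj : Function.Injective φ := by
    show Function.Injective (e5.permCongrHom ∘ MulAction.toPermHom G (G ⧸ N))
    refine e5.permCongrHom.injective.comp ?_
    rw [← MonoidHom.ker_eq_bot_iff]
    set K := (MulAction.toPermHom G (G ⧸ N)).ker with hK
    by_contra hne
    have h10 := dvd_of_normal h K hne
    have hKN : K ≤ N := by
      intro k hk
      have := Equiv.congr_fun (MonoidHom.mem_ker.1 hk) ((1 : G) : G ⧸ N)
      simp only [toPermHom_apply, toPerm_apply, Equiv.Perm.coe_one, id_eq,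
        MulAction.Quotient.smul_coe, QuotientGroup.eq, smul_eq_mul, mul_one] at this
      exact inv_mem_iff.1 this
    have h20 := h10.trans (Subgroup.card_dvd_of_le hKN)
    rw [hNcard, hqh, hh2] at h20
    norm_num at h20
  have hrange : φ.range = alternatingGroup (Fin 5) := by
    refine Equiv.Perm.eq_alternatingGroup_of_index_eq_two ?_
    have e := φ.range.index_mul_card
    rw [← Nat.card_congr (MonoidHom.ofInjective hinj).toEquiv, hn, Nat.card_eq_fintype_card,
      Fintype.card_perm, Fintype.card_fin] at e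
    norm_num [Nat.factorial] at e
    omega
  exact ⟨(MonoidHom.ofInjective hinj).trans (MulEquiv.subgroupCongr hrange)⟩

end Cfsg.Agent.Lib.PrimeSharp.TwoP.Structure
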